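import Cfsg.Agent.Lib.Solvable.TwoLength.Tools

/-!
# An involution commuting with a quadratic operator of odd order

If `y` acts quadratically in odd characteristic, `z` is an involution commuting with `y` and the
displacements satisfy `(y - 1) * (z - 1) = 0`, then `z` centralises `[R, y]` for every two-group `R`
normalised by both.
-/

set_option autoImplicit false

namespace CfsgLib.Solvable.TwoLength

open Subgroup CfsgLib
open scoped commutatorElement

variable {Γ : Type*} [Group Γ] {F : Type*} [Field F] {V : Type*} [AddCommGroup V] [Module F V]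

theorem map_mul_inv_end (ρ : Γ →* Module.End F V) (g : Γ) : ρ g * ρ g⁻¹ = 1 := by
  rw [← map_mul, mul_inv_cancel, map_one]

theorem map_inv_mul_end (ρ : Γ →* Module.End F V) (g : Γ) : ρ g⁻¹ * ρ g = 1 := by
  rw [← map_mul, inv_mul_cancel, map_one]

/-- An element killed on the left of an operator is killed on the commutators with it. -/
theorem mul_map_commutatorElement (ρ : Γ →* Module.End F V) {f : Module.End F V} {g r : Γ}
    (hg : f * ρ g = f) (hr : Commute f (ρ r)) (i : ℤ) : f * ρ ⁅r, g ^ i⁆ = f := by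
  have hginv : f * ρ g⁻¹ = f := by
    conv_lhs => rw [← hg]
    rw [mul_assoc, map_mul_inv_end, mul_one]
  have hgi : ∀ j : ℤ, f * ρ (g ^ j) = f := by
    intro j
    induction j with
    | zero => simp
    | succ n ih => rw [zpow_add_one, map_mul, ← mul_assoc, ih, hg]
    | pred n ih => rw [zpow_sub_one, map_mul, ← mul_assoc, ih, hginv]
  rw [commutatorElement_def, map_mul, map_mul, map_mul]
  calc f * (ρ r * ρ (g ^ i) * ρ r⁻¹ * ρ (g ^ i)⁻¹)
      = ρ r * (f * ρ (g ^ i)) * ρ r⁻¹ * ρ (g ^ i)⁻¹ := by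
        simp only [← mul_assoc, hr.eq]
    _ = f * (ρ r * ρ r⁻¹) * ρ (g ^ i)⁻¹ := by rw [hgi, ← hr.eq, mul_assoc f]
    _ = f := by rw [map_mul_inv_end, mul_one, ← zpow_neg, hgi]

/-- So it is killed on the subgroup generated by these commutators. -/
theorem mul_map_mem_commutator (ρ : Γ →* Module.End F V) {f : Module.End F V} {g : Γ}
    (R : Subgroup Γ) (hg : f * ρ g = f) (hr : ∀ r ∈ R, Commute f (ρ r)) :
    ∀ x ∈ ⁅R, zpowers g⁆, f * ρ x = f := by
  intro x hx
  induction hx using closure_induction with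
  | mem x hx =>
    obtain ⟨r, hr', w, hw, rfl⟩ := hx
    obtain ⟨i, rfl⟩ := mem_zpowers_iff.1 hw
    exact mul_map_commutatorElement ρ hg (hr r hr') i
  | one => simp
  | mul a b _ _ ha hb => rw [map_mul, ← mul_assoc, ha, hb]
  | inv a _ ha =>
    conv_lhs => rw [← ha]
    rw [mul_assoc, map_mul_inv_end, mul_one]

theorem mem_normalizer_commutator (A B : Subgroup Γ) {g : Γ}
    (hg : g ∈ normalizer (A : Set Γ) ⊓ normalizer (B : Set Γ)) :
    g ∈ normalizer ((⁅A, B⁆ : Subgroup Γ) : Set Γ) := by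
  rw [mem_inf, mem_normalizer_iff_map_conj_eq, mem_normalizer_iff_map_conj_eq] at hg
  rw [mem_normalizer_iff_map_conj_eq, map_commutator, hg.1, hg.2]

theorem mem_normalizer_centralizer {A : Subgroup Γ} {g : Γ}
    (hg : g ∈ normalizer (A : Set Γ)) :
    g ∈ normalizer ((centralizer (A : Set Γ) : Subgroup Γ) : Set Γ) := by
  refine le_normalizer_iff.2 (fun h hh x hx => mem_centralizer_iff.2 fun a ha => ?_) hg
  have h1 : h⁻¹ * a * h ∈ A := by
    have := (mem_normalizer_iff.1 (inv_mem hh) a).1 ha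
    rwa [inv_inv] at this
  have h2 := mem_centralizer_iff.1 hx _ h1
  calc a * (h * x * h⁻¹) = h * ((h⁻¹ * a * h) * x) * h⁻¹ := by group
    _ = h * x * h⁻¹ * a := by rw [h2]; group

variable {q : ℕ} [Fact q.Prime] [CharP F q]

theorem natCast_end_eq_zero : (q : Module.End F V) = 0 := by
  rw [← map_natCast (algebraMap F (Module.End F V)), CharP.cast_eq_zero, map_zero]

/-- A quadratic operator of odd order centralises every abelian two-group it normalises. -/
theorem quadratic_abelian (hq : q ≠ 2) (ρ : Γ →* Module.End F V) (hinj : Function.Injective ρ)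
    {y : Γ} (hy : Odd (orderOf y)) (h1 : (ρ y - 1) * (ρ y - 1) = 0) {A : Subgroup Γ}
    (hA : IsPGroup 2 A) (hAc : ∀ a ∈ A, ∀ b ∈ A, a * b = b * a)
    (hyA : y ∈ normalizer (A : Set Γ)) {b : Γ} (hb : b ∈ A) : y * b = b * y := by
  let σ : ℕ → Γ → Γ := fun n a => y ^ n * a * (y ^ n)⁻¹
  have hσA : ∀ n a, a ∈ A → σ n a ∈ A := fun n a ha =>
    (mem_normalizer_iff.1 (pow_mem hyA n) a).1 ha
  have hσσ : ∀ m n a, σ m (σ n a) = σ (m + n) a := fun m n a => by
    simp only [σ, pow_add]; group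
  have hcm : ∀ a c, a ∈ A → c ∈ A → ρ a * ρ c = ρ c * ρ a := fun a c ha hc => by
    rw [← map_mul, ← map_mul, hAc a ha c hc]
  have hrel : ∀ a, ρ (σ 2 a) * (ρ y * ρ y) - 2 * (ρ (σ 1 a) * ρ y) + ρ a = 0 := by
    intro a
    have e2 : ρ y * ρ y * ρ a = ρ (σ 2 a) * (ρ y * ρ y) := by
      rw [← map_mul, ← map_mul, ← map_mul]; congr 1; simp only [σ, pow_two]; group
    have e1 : ρ y * ρ a = ρ (σ 1 a) * ρ y := by
      rw [← map_mul, ← map_mul]; congr 1; simp only [σ, pow_one]; group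
    have : (ρ y - 1) * (ρ y - 1) * ρ a = 0 := by rw [h1, zero_mul]
    rw [← this, ← e2, ← e1]
    noncomm_ring
  -- eliminate the quadratic term
  have hst : ∀ c a, c ∈ A → a ∈ A →
      (ρ c - ρ (σ 2 c)) * ρ a - 2 * ((ρ (σ 1 c) - ρ (σ 2 c)) * ρ (σ 1 a) * ρ y) = 0 := by
    intro c a hc ha
    have r1 := hrel (c * a)
    have r2 := hrel a
    have e : ∀ n, σ n (c * a) = σ n c * σ n a := fun n => by simp only [σ]; group
    have r1' : ρ (σ 2 c) * ρ (σ 2 a) * (ρ y * ρ y) - 2 * (ρ (σ 1 c) * ρ (σ 1 a) * ρ y) +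
        ρ c * ρ a = 0 := by
      simp only [← map_mul ρ, ← e] at r1 ⊢
      exact r1
    have r3 : ρ (σ 2 c) * (ρ (σ 2 a) * (ρ y * ρ y) - 2 * (ρ (σ 1 a) * ρ y) + ρ a) = 0 := by
      rw [r2, mul_zero]
    calc (ρ c - ρ (σ 2 c)) * ρ a - 2 * ((ρ (σ 1 c) - ρ (σ 2 c)) * ρ (σ 1 a) * ρ y)
        = (ρ (σ 2 c) * ρ (σ 2 a) * (ρ y * ρ y) - 2 * (ρ (σ 1 c) * ρ (σ 1 a) * ρ y) + ρ c * ρ a) -
          (ρ (σ 2 c) * (ρ (σ 2 a) * (ρ y * ρ y) - 2 * (ρ (σ 1 a) * ρ y) + ρ a)) := by noncomm_ring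
      _ = 0 := by rw [r1', r3, sub_zero]
  have hzero : ∀ c d, c ∈ A → d ∈ A → (ρ c - ρ (σ 2 c)) * (ρ d - ρ (σ 1 d)) = 0 := by
    intro c d hc hd
    have s1 := hst c d hc hd
    have s0 := hst c 1 hc (one_mem A)
    have e : σ 1 (1 : Γ) = 1 := by simp only [σ]; group
    rw [e, map_one, mul_one, mul_one] at s0
    have k1 : ρ (σ 1 d) * (ρ c - ρ (σ 2 c)) = (ρ c - ρ (σ 2 c)) * ρ (σ 1 d) := by
      rw [mul_sub, sub_mul, hcm _ _ (hσA 1 d hd) hc, hcm _ _ (hσA 1 d hd) (hσA 2 c hc)]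
    have k2 : ρ (σ 1 d) * (ρ (σ 1 c) - ρ (σ 2 c)) = (ρ (σ 1 c) - ρ (σ 2 c)) * ρ (σ 1 d) := by
      rw [mul_sub, sub_mul, hcm _ _ (hσA 1 d hd) (hσA 1 c hc),
        hcm _ _ (hσA 1 d hd) (hσA 2 c hc)]
    have s0' : ρ (σ 1 d) * ((ρ c - ρ (σ 2 c)) - 2 * ((ρ (σ 1 c) - ρ (σ 2 c)) * ρ y)) = 0 := by
      rw [s0, mul_zero]
    have k3 : ρ (σ 1 d) * (2 : Module.End F V) = 2 * ρ (σ 1 d) := by
      rw [mul_two, two_mul]
    rw [mul_sub, k1, ← mul_assoc, k3, mul_assoc (2 : Module.End F V),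
      ← mul_assoc (ρ (σ 1 d)), k2] at s0'
    calc (ρ c - ρ (σ 2 c)) * (ρ d - ρ (σ 1 d))
        = ((ρ c - ρ (σ 2 c)) * ρ d - 2 * ((ρ (σ 1 c) - ρ (σ 2 c)) * ρ (σ 1 d) * ρ y)) -
          ((ρ c - ρ (σ 2 c)) * ρ (σ 1 d) - 2 * ((ρ (σ 1 c) - ρ (σ 2 c)) * ρ (σ 1 d) * ρ y)) := by
          noncomm_ring
      _ = 0 := by rw [s1, s0', sub_zero]
  have hsum : ∀ j c d, c ∈ A → d ∈ A → (ρ c - ρ (σ (2 * j) c)) * (ρ d - ρ (σ 1 d)) = 0 := by
    intro j
    induction j with
    | zero => intro c d _ _; simp [σ]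
    | succ j ih =>
      intro c d hc hd
      have h := ih (σ 2 c) d (hσA 2 c hc) hd
      rw [hσσ] at h
      rw [show 2 * (j + 1) = 2 * j + 2 by ring]
      calc (ρ c - ρ (σ (2 * j + 2) c)) * (ρ d - ρ (σ 1 d))
          = (ρ c - ρ (σ 2 c)) * (ρ d - ρ (σ 1 d)) +
            (ρ (σ 2 c) - ρ (σ (2 * j + 2) c)) * (ρ d - ρ (σ 1 d)) := by noncomm_ring
        _ = 0 := by rw [hzero c d hc hd, h, add_zero]
  obtain ⟨i, hi⟩ := hy
  have hb2 := hsum (i + 1) b b hb hb
  have hfix : σ (2 * (i + 1)) b = σ 1 b := by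
    simp only [σ]
    rw [show 2 * (i + 1) = orderOf y + 1 by omega, pow_add, pow_orderOf_eq_one, one_mul]
  rw [hfix] at hb2
  set u := b⁻¹ * σ 1 b with hu
  have huA : u ∈ A := mul_mem (inv_mem hb) (hσA 1 b hb)
  obtain ⟨k, hk⟩ := hA ⟨u, huA⟩
  have hu1 : ρ u = 1 := by
    refine eq_one_of_sq_eq_zero (q := q) natCast_end_eq_zero hq (k := k) ?_ ?_
    · rw [← map_pow, show u ^ 2 ^ k = 1 from congrArg Subtype.val hk, map_one]
    · have e : ρ u - 1 = ρ b⁻¹ * -(ρ b - ρ (σ 1 b)) := by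
        rw [neg_sub, mul_sub, map_inv_mul_end, hu, map_mul]
      have e' : ρ u - 1 = -(ρ b - ρ (σ 1 b)) * ρ b⁻¹ := by
        rw [e, neg_sub, mul_sub, sub_mul, hcm _ _ (inv_mem hb) (hσA 1 b hb),
          hcm _ _ (inv_mem hb) hb]
      nth_rewrite 1 [e]
      rw [e', mul_assoc, ← mul_assoc (-_) (-_), neg_mul_neg, hb2, zero_mul, mul_zero]
  rw [← map_one ρ] at hu1
  have hu2 := hinj hu1
  rw [hu, inv_mul_eq_one] at hu2
  simp only [σ, pow_one] at hu2
  exact mul_inv_eq_iff_eq_mul.1 hu2.symm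

/-- The involution centralises `[R, y]`. -/
theorem quadratic_commute [Finite Γ] (hq : q ≠ 2) (ρ : Γ →* Module.End F V)
    (hinj : Function.Injective ρ) {y z : Γ} (hy : Odd (orderOf y)) (hz : z * z = 1)
    (hyz : Commute y z) (h1 : (ρ y - 1) * (ρ y - 1) = 0) (h2 : (ρ y - 1) * (ρ z - 1) = 0)
    (R : Subgroup Γ) (hR : IsPGroup 2 R) (hyR : y ∈ normalizer (R : Set Γ))
    (hzR : z ∈ normalizer (R : Set Γ)) : ∀ x ∈ ⁅R, zpowers y⁆, Commute z x := by
  induction hn : Nat.card R using Nat.strong_induction_on generalizing R with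
  | _ n ih =>
  haveI : Fact (Nat.Prime 2) := ⟨Nat.prime_two⟩
  have hYR : zpowers y ≤ normalizer (R : Set Γ) := zpowers_le.2 hyR
  have hcopY : ∀ K : Subgroup Γ, IsPGroup 2 K → (Nat.card (zpowers y)).Coprime (Nat.card K) := by
    intro K hK
    obtain ⟨m, hm⟩ := (IsPGroup.iff_card (p := 2)).1 hK
    rw [hm, Nat.card_zpowers]
    exact (Nat.coprime_two_right.2 hy).pow_right m
  have hsolY : ∀ K : Subgroup Γ, Group.IsSolvable (zpowers y) ∨ Group.IsSolvable K :=
    fun K => .inl (Coprime.isSolvable_zpowers y)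
  by_cases hRy : ⁅R, zpowers y⁆ = R
  swap
  · have hle : ⁅R, zpowers y⁆ ≤ R := le_normalizer_iff_commutator_le_left.1 hYR
    have hlt : Nat.card ↥⁅R, zpowers y⁆ < Nat.card R := by
      refine lt_of_le_of_ne (Nat.le_of_dvd Nat.card_pos (card_dvd_of_le hle)) fun he => hRy ?_
      exact eq_of_le_of_card_ge hle he.ge
    have hzn : z ∈ normalizer ((⁅R, zpowers y⁆ : Subgroup Γ) : Set Γ) := by
      refine mem_normalizer_commutator R (zpowers y) ⟨hzR, ?_⟩
      refine centralizer_le_normalizer _ (mem_centralizer_iff.2 ?_)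
      intro w hw
      obtain ⟨i, rfl⟩ := mem_zpowers_iff.1 hw
      exact (hyz.zpow_left i).eq
    have hres := ih _ (hn ▸ hlt) ⁅R, zpowers y⁆ (hR.to_le hle)
      (normalizer_commutator_ge_right R (zpowers y) (mem_zpowers y)) hzn rfl
    intro x hx
    exact hres x (by rwa [Coprime.commutator_commutator_self hYR (hcopY R hR) (hsolY R)])
  rw [hRy]
  haveI := hR.isNilpotent
  set Zc := R ⊓ centralizer (R : Set Γ) with hZc
  have hZcc : ∀ w ∈ Zc, ∀ r ∈ R, r * w = w * r := fun w hw r hr => mem_centralizer_iff.1 hw.2 r hr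
  have hZcp : IsPGroup 2 Zc := hR.to_le inf_le_left
  -- abelian invariant subgroups
  have hyA : ∀ A : Subgroup Γ, A ≤ R → (∀ a ∈ A, ∀ b ∈ A, a * b = b * a) →
      y ∈ normalizer (A : Set Γ) → ∀ a ∈ A, Commute y a := fun A hAR hAc hA a ha =>
    quadratic_abelian hq ρ hinj hy h1 (hR.to_le hAR) hAc hA ha
  have hchar : ∀ A : Subgroup R, A.Characteristic → (∀ a ∈ A, ∀ b ∈ A, a * b = b * a) →
      A ≤ center R := by
    intro A hA hAc
    have hnorm : normalizer (R : Set Γ) ≤ normalizer ((A.map R.subtype : Subgroup Γ) : Set Γ) := by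
      refine le_normalizer_iff.2 fun g hg => ?_
      rintro _ ⟨x, hx, rfl⟩
      exact ⟨R.normalizerMonoidHom ⟨g, hg⟩ x,
        characteristic_iff_map_le.mp hA _ ⟨x, hx, rfl⟩, rfl⟩
    have hAc' : ∀ a ∈ A.map R.subtype, ∀ b ∈ A.map R.subtype, a * b = b * a := by
      rintro _ ⟨a, ha, rfl⟩ _ ⟨b, hb, rfl⟩
      rw [← map_mul, ← map_mul, hAc a ha b hb]
    have h0 : ⁅A.map R.subtype, zpowers y⁆ = ⊥ := by
      refine commutator_eq_bot_iff_le_centralizer.2 fun a ha => mem_centralizer_iff.2 fun w hw => ?_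
      obtain ⟨i, rfl⟩ := mem_zpowers_iff.1 hw
      exact ((hyA _ (map_subtype_le A) hAc' (hnorm hyR) a ha).zpow_left i).eq
    have h0' := commutator_eq_bot_of_commutator_eq h0 (le_normalizer.trans hnorm) hRy
    intro a ha
    refine mem_center_iff.2 fun r => Subtype.ext ?_
    exact mem_centralizer_iff.1 (commutator_eq_bot_iff_le_centralizer.1 h0' (mem_map_of_mem _ ha))
      r r.2
  have hcls : ∀ a ∈ R, ∀ b ∈ R, ⁅a, b⁆ ∈ Zc := by
    intro a ha b hb
    have h := commutator_le_center_of_charAbelian hchar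
      (commutator_mem_commutator (mem_top (⟨a, ha⟩ : R)) (mem_top ⟨b, hb⟩))
    refine ⟨?_, mem_centralizer_iff.2 fun r hr => ?_⟩
    · exact (⁅(⟨a, ha⟩ : R), ⟨b, hb⟩⁆ : R).2
    · exact congrArg Subtype.val (mem_center_iff.1 h ⟨r, hr⟩)
  have hyZc : y ∈ normalizer (Zc : Set Γ) := by
    refine inf_normalizer_le_normalizer_inf ?_
    exact ⟨hyR, mem_normalizer_centralizer hyR⟩
  have hyw : ∀ w ∈ Zc, Commute y w :=
    hyA Zc inf_le_left (fun a ha b hb => hZcc b hb a ha.1) hyZc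
  -- elements fixed by `y` are central
  have hfix : ∀ x ∈ R, Commute y x → x ∈ Zc := by
    intro x hx hyx
    refine ⟨hx, ?_⟩
    have hle : ⁅R, zpowers y⁆ ≤ centralizer ({x} : Set Γ) := by
      refine commutator_le.2 fun r hr w hw => mem_centralizer_singleton_iff.2 ?_
      obtain ⟨i, rfl⟩ := mem_zpowers_iff.1 hw
      have hw' : ⁅x, r⁆ ∈ Zc := hcls x hx r hr
      refine (commute_commutatorElement (hyx.symm.zpow_right i)
        ((hyw _ hw').symm.zpow_right i) ?_).eq.symm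
      exact (hZcc _ hw' _ (le_normalizer_iff_commutator_le_left.1 hYR
        (commutator_mem_commutator hr hw))).symm
    rw [hRy] at hle
    exact mem_centralizer_iff.2 fun r hr => mem_centralizer_singleton_iff.1 (hle hr)
  -- `z` centralises the centre
  have hza : (ρ z - 1) * (ρ y - 1) = 0 := by
    rw [← h2]
    have : ρ y * ρ z = ρ z * ρ y := by rw [← map_mul, ← map_mul, hyz.eq]
    noncomm_ring [this]
  have hzw : ∀ w ∈ Zc, Commute z w := by
    have hzZc : z ∈ normalizer (Zc : Set Γ) := inf_normalizer_le_normalizer_inf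
      ⟨hzR, mem_normalizer_centralizer hzR⟩
    intro w hw
    set w' := z * w * z⁻¹ with hw'def
    have hw' : w' ∈ Zc := (mem_normalizer_iff.1 hzZc w).1 hw
    set f := ρ w' - ρ w with hf
    have hfy : f * ρ y = f := by
      have e1 : ρ w' * ρ z = ρ z * ρ w := by rw [← map_mul, ← map_mul, hw'def]; congr 1; group
      have e2 : ρ z * (ρ y - 1) = ρ y - 1 := by
        have := hza
        rw [sub_mul, one_mul, sub_eq_zero] at this
        exact this
      have e3 : ρ w * (ρ y - 1) = (ρ y - 1) * ρ w := by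
        rw [mul_sub, sub_mul, ← map_mul, ← map_mul, (hyw w hw).eq, mul_one, one_mul]
      have e4 : ρ w' * (ρ y - 1) = ρ w * (ρ y - 1) := by
        calc ρ w' * (ρ y - 1) = ρ w' * ρ z * (ρ y - 1) := by rw [mul_assoc, e2]
          _ = ρ z * ((ρ y - 1) * ρ w) := by rw [e1, mul_assoc, e3]
          _ = ρ w * (ρ y - 1) := by rw [← mul_assoc, e2, e3]
      have e5 : f * (ρ y - 1) = 0 := by rw [hf, sub_mul, e4, sub_self]
      rwa [mul_sub, mul_one, sub_eq_zero] at e5
    have hfr : ∀ r ∈ R, Commute f (ρ r) := fun r hr => by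
      show f * ρ r = ρ r * f
      rw [hf, sub_mul, mul_sub, ← map_mul, ← map_mul, ← map_mul, ← map_mul, hZcc w' hw' r hr,
        hZcc w hw r hr]
    have hall := mul_map_mem_commutator ρ R hfy hfr
    rw [hRy] at hall
    set u := w⁻¹ * w' with hu
    have huZ : u ∈ Zc := mul_mem (inv_mem hw) hw'
    obtain ⟨k, hk⟩ := hZcp ⟨u, huZ⟩
    have hu1 : ρ u = 1 := by
      refine eq_one_of_sq_eq_zero (q := q) natCast_end_eq_zero hq (k := k) ?_ ?_
      · rw [← map_pow, show u ^ 2 ^ k = 1 from congrArg Subtype.val hk, map_one]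
      · have e : ρ u - 1 = f * ρ w⁻¹ := by
          rw [(hfr _ (inv_mem hw.1)).eq, hf, mul_sub, map_inv_mul_end, hu, map_mul]
        rw [e, hall _ (inv_mem hw.1)]
        rw [hf, mul_sub, ← hf, hall w' hw'.1, hall w hw.1, sub_self]
    rw [← map_one ρ] at hu1
    have h := hinj hu1
    rw [hu, inv_mul_eq_one, hw'def] at h
    exact mul_inv_eq_iff_eq_mul.1 h.symm
  -- the proper subgroup `L`
  have hzn : zpowers z ≤ normalizer (R : Set Γ) := zpowers_le.2 hzR
  have hz2 : IsPGroup 2 (zpowers z) := fun x => ⟨1, by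
    obtain ⟨i, hi⟩ := mem_zpowers_iff.1 x.2
    refine Subtype.ext ?_
    show (x : Γ) ^ 2 ^ 1 = 1
    rw [← hi, pow_one, ← zpow_natCast, ← zpow_mul, mul_comm, zpow_mul, zpow_natCast, pow_two, hz,
      one_zpow]⟩
  set R₁ := ⁅R, zpowers z⁆ with hR₁
  have hR₁le : R₁ ≤ R := le_normalizer_iff_commutator_le_left.1 hzn
  set L := R₁ ⊔ Zc with hL
  have hLR : L ≤ R := sup_le hR₁le inf_le_left
  have hcz : ∀ K : Subgroup Γ, K ≤ Zc → ⁅K, zpowers z⁆ = ⊥ := fun K hK =>
    commutator_eq_bot_iff_le_centralizer.2 fun a ha => mem_centralizer_iff.2 fun w hw => by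
      obtain ⟨i, rfl⟩ := mem_zpowers_iff.1 hw
      exact ((hzw a (hK ha)).zpow_left i).eq
  by_cases hRZ : R ≤ Zc
  · exact fun x hx => hzw x (hRZ hx)
  have hLlt : Nat.card L < Nat.card R := by
    refine lt_of_le_of_ne (Nat.le_of_dvd Nat.card_pos (card_dvd_of_le hLR)) fun he => hRZ ?_
    have hLe : L = R := eq_of_le_of_card_ge hLR he.ge
    have hgen : R₁ ≤ ⁅R₁, zpowers z⁆ := by
      refine commutator_le.2 fun r hr w hw => ?_
      rw [← hLe, hL] at hr
      obtain ⟨a, ha, c, hc, rfl⟩ : ∃ a ∈ R₁, ∃ c ∈ Zc, a * c = r := by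
        have hn' : Zc ≤ normalizer (R₁ : Set Γ) :=
          inf_le_left.trans (normalizer_commutator_ge_left R (zpowers z))
        exact (Set.ext_iff.1 (coe_mul_of_right_le_normalizer_left _ _ hn') r).1 hr
      have hwz : Commute c w := by
        obtain ⟨i, rfl⟩ := mem_zpowers_iff.1 hw
        exact ((hzw c hc).zpow_left i).symm
      rw [show ⁅a * c, w⁆ = ⁅a, w⁆ by
        simp only [commutatorElement_def, mul_inv_rev]
        rw [show a * c * w = a * w * c by rw [mul_assoc, hwz.eq, mul_assoc]]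
        group]
      exact commutator_mem_commutator ha hw
    by_contra hb
    have hne : R₁ ≠ ⊥ := fun h0 => hb (by rw [← hLe, hL, h0, bot_sup_eq])
    exact (Coprime.commutator_lt_of_isPGroup hz2 (hR.to_le hR₁le)
      (normalizer_commutator_ge_right R (zpowers z)) hne).not_ge hgen
  have hyL : y ∈ normalizer (L : Set Γ) := by
    have h : y ∈ normalizer (R₁ : Set Γ) := by
      refine mem_normalizer_commutator R (zpowers z) ⟨hyR, ?_⟩
      refine centralizer_le_normalizer _ (mem_centralizer_iff.2 fun w hw => ?_)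
      obtain ⟨i, rfl⟩ := mem_zpowers_iff.1 hw
      exact (hyz.symm.zpow_left i).eq
    exact normalizer_inf_normalizer_le_normalizer_sup _ _ ⟨h, hyZc⟩
  have hzL : z ∈ normalizer (L : Set Γ) := normalizer_inf_normalizer_le_normalizer_sup _ _
    ⟨normalizer_commutator_ge_right R (zpowers z) (mem_zpowers z),
      inf_normalizer_le_normalizer_inf
        ⟨hzR, mem_normalizer_centralizer hzR⟩⟩
  have hM := ih _ (hn ▸ hLlt) L (hR.to_le hLR) hyL hzL rfl
  set M := ⁅L, zpowers y⁆ with hMdef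
  have hML : M ≤ L := le_normalizer_iff_commutator_le_left.1 (zpowers_le.2 hyL)
  have hMM : ⁅M, zpowers y⁆ = M :=
    Coprime.commutator_commutator_self (zpowers_le.2 hyL) (hcopY L (hR.to_le hLR)) (hsolY L)
  -- `M` fixes the displacement of `z`
  have hb0 : ρ y * (ρ z - 1) = ρ z - 1 := by
    rwa [sub_mul, one_mul, sub_eq_zero] at h2
  have hMb : ∀ m ∈ M, ρ m * (ρ z - 1) = ρ z - 1 := by
    intro m hm
    rw [← hMM] at hm
    induction hm using closure_induction with
    | mem x hx =>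
      obtain ⟨r, hr, w, hw, rfl⟩ := hx
      obtain ⟨i, rfl⟩ := mem_zpowers_iff.1 hw
      have hyi : ∀ j : ℤ, ρ (y ^ j) * (ρ z - 1) = ρ z - 1 := by
        have hinv : ρ y⁻¹ * (ρ z - 1) = ρ z - 1 := by
          conv_lhs => rw [← hb0]
          rw [← mul_assoc, map_inv_mul_end, one_mul]
        intro j
        induction j with
        | zero => simp
        | succ n ih => rw [zpow_add_one, map_mul, mul_assoc, hb0, ih]
        | pred n ih => rw [zpow_sub_one, map_mul, mul_assoc, hinv, ih]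
      have hrz : ρ r⁻¹ * (ρ z - 1) = (ρ z - 1) * ρ r⁻¹ := by
        rw [mul_sub, sub_mul, ← map_mul, ← map_mul, mul_one, one_mul,
          ((hM r hr).inv_right).eq]
      rw [commutatorElement_def, ← zpow_neg, map_mul, map_mul, map_mul]
      simp only [mul_assoc]
      rw [hyi, hrz, ← mul_assoc (ρ (y ^ i)), hyi, ← hrz, ← mul_assoc, map_mul_inv_end, one_mul]
    | one => simp
    | mul a b _ _ ha hb => rw [map_mul, mul_assoc, hb, ha]
    | inv a _ ha =>
      conv_lhs => rw [← ha]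
      rw [← mul_assoc, map_inv_mul_end, one_mul]
  have hMab : ∀ m ∈ M, ∀ m' ∈ M, m * m' = m' * m := by
    intro m hm m' hm'
    set w := ⁅m, m'⁆ with hw
    have hwZ : w ∈ Zc := hcls m (hLR (hML hm)) m' (hLR (hML hm'))
    set f := ρ w - 1 with hf
    have hfr : ∀ r ∈ R, Commute f (ρ r) := fun r hr => by
      show f * ρ r = ρ r * f
      rw [hf, sub_mul, mul_sub, ← map_mul, ← map_mul, hZcc w hwZ r hr, one_mul, mul_one]
    have hwM : w ∈ M := by
      rw [hw, commutatorElement_def]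
      exact mul_mem (mul_mem (mul_mem hm hm') (inv_mem hm)) (inv_mem hm')
    have hfz : f * ρ z = f := by
      have : f * (ρ z - 1) = 0 := by rw [hf, sub_mul, hMb w hwM, one_mul, sub_self]
      rwa [mul_sub, mul_one, sub_eq_zero] at this
    have hS : ∀ x ∈ L, ∀ r ∈ R, f * ρ x * ρ r = f * ρ r * ρ x := by
      intro x hx
      rw [hL] at hx
      have hn' : Zc ≤ normalizer (R₁ : Set Γ) :=
        inf_le_left.trans (normalizer_commutator_ge_left R (zpowers z))
      obtain ⟨a, ha, c, hc, rfl⟩ : ∃ a ∈ R₁, ∃ c ∈ Zc, a * c = x :=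
        (Set.ext_iff.1 (coe_mul_of_right_le_normalizer_left _ _ hn') x).1 hx
      have ha' : f * ρ a = f := mul_map_mem_commutator ρ R hfz hfr a ha
      intro r hr
      calc f * ρ (a * c) * ρ r = f * ρ c * ρ r := by rw [map_mul, ← mul_assoc, ha']
        _ = f * ρ r * ρ c := by rw [mul_assoc, ← map_mul, ← hZcc c hc r hr, map_mul, ← mul_assoc]
        _ = ρ r * (f * ρ a) * ρ c := by rw [ha', (hfr r hr).eq]
        _ = f * ρ r * ρ (a * c) := by rw [map_mul, (hfr r hr).eq]; simp only [mul_assoc]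
    have hfw : f * ρ w = f := by
      rw [hw, commutatorElement_def, map_mul, map_mul, map_mul, ← mul_assoc, ← mul_assoc,
        ← mul_assoc, hS m (hML hm) m' (hLR (hML hm')), mul_assoc (f * ρ m') (ρ m),
        map_mul_inv_end, mul_one, mul_assoc, map_mul_inv_end, mul_one]
    obtain ⟨k, hk⟩ := hZcp ⟨w, hwZ⟩
    have hw1 : ρ w = 1 := eq_one_of_sq_eq_zero (q := q) natCast_end_eq_zero hq (k := k)
      (by rw [← map_pow, show w ^ 2 ^ k = 1 from congrArg Subtype.val hk, map_one])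
      (by rw [← hf, mul_sub, mul_one, hfw, sub_self])
    rw [← map_one ρ] at hw1
    exact commutatorElement_eq_one_iff_mul_comm.1 (hinj hw1)
  have hyM : ∀ m ∈ M, Commute y m := hyA M (hML.trans hLR) hMab
    (normalizer_commutator_ge_right L (zpowers y) (mem_zpowers y))
  have hM0 : M = ⊥ := by
    rw [← hMM]
    refine commutator_eq_bot_iff_le_centralizer.2 fun m hm => mem_centralizer_iff.2 fun w hw => ?_
    obtain ⟨i, rfl⟩ := mem_zpowers_iff.1 hw
    exact ((hyM m hm).zpow_left i).eq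
  have hLZ : L ≤ Zc := fun l hl => hfix l (hLR hl) (mem_centralizer_iff.1
    (commutator_eq_bot_iff_le_centralizer.1 hM0 hl) y (mem_zpowers y))
  -- conclude on generators
  suffices ⁅R, zpowers y⁆ ≤ centralizer ({z} : Set Γ) by
    rw [hRy] at this
    exact fun x hx => (mem_centralizer_singleton_iff.1 (this hx)).symm
  refine commutator_le.2 fun r hr w hw => mem_centralizer_singleton_iff.2 ?_
  obtain ⟨i, rfl⟩ := mem_zpowers_iff.1 hw
  set c := ⁅r, z⁆ with hc
  have hcZ : c ∈ Zc := hLZ (mem_sup_left (commutator_mem_commutator hr (mem_zpowers z)))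
  set r' := y ^ i * r * (y ^ i)⁻¹ with hr'def
  have hr' : r' ∈ R := (mem_normalizer_iff.1 (zpow_mem hyR i) r).1 hr
  have hc' : ⁅r', z⁆ = c := by
    calc ⁅r', z⁆ = y ^ i * ⁅r, z⁆ * (y ^ i)⁻¹ := by
          have e : (y ^ i)⁻¹ * z = z * (y ^ i)⁻¹ := ((hyz.zpow_left i).inv_left).eq
          have e' : (y ^ i)⁻¹ * z⁻¹ = z⁻¹ * (y ^ i)⁻¹ := (((hyz.zpow_left i).inv_left).inv_right).eq
          simp only [commutatorElement_def, hr'def, mul_inv_rev, inv_inv]
          calc y ^ i * r * (y ^ i)⁻¹ * z * (y ^ i * (r⁻¹ * (y ^ i)⁻¹)) * z⁻¹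
              = y ^ i * r * ((y ^ i)⁻¹ * z) * y ^ i * r⁻¹ * ((y ^ i)⁻¹ * z⁻¹) := by group
            _ = y ^ i * (r * z * r⁻¹ * z⁻¹) * (y ^ i)⁻¹ := by rw [e, e']; group
      _ = c := by rw [((hyw c hcZ).zpow_left i).eq, mul_inv_cancel_right]
  have e1 : z * r * z⁻¹ = c⁻¹ * r := by rw [hc, commutatorElement_def]; group
  have e2 : z * r' * z⁻¹ = c⁻¹ * r' := by rw [← hc', commutatorElement_def]; group
  have e3 : ⁅r, y ^ i⁆ = r * r'⁻¹ := by rw [commutatorElement_def, hr'def]; group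
  rw [e3]
  have e4 : z * (r * r'⁻¹) * z⁻¹ = r * r'⁻¹ := by
    calc z * (r * r'⁻¹) * z⁻¹ = (z * r * z⁻¹) * (z * r' * z⁻¹)⁻¹ := by group
      _ = c⁻¹ * (r * r'⁻¹) * c := by rw [e1, e2]; group
      _ = r * r'⁻¹ := by
        rw [mul_assoc, hZcc c hcZ _ (mul_mem hr (inv_mem hr')), inv_mul_cancel_left]
  exact (mul_inv_eq_iff_eq_mul.1 e4).symm

end CfsgLib.Solvable.TwoLength
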