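import Cfsg.Agent.Lib.Solvable.TwoLength.Exceptional
import Cfsg.Agent.Lib.Solvable.TwoLength.Quadratic
import Cfsg.Agent.Lib.Solvable.FPFOperators.PLengthHH
import Cfsg.Agent.Lib.Coprime.Sylow
import Cfsg.Agent.Lib.Coprime.SchurZassenhaus

/-!
# The bound `2 * e - 1` for the two-length
-/

set_option autoImplicit false

namespace CfsgLib.Solvable.TwoLength

open Subgroup CfsgLib CfsgLib.Solvable.FPFOperators
open scoped commutatorElement

universe u v w

/-- A representation factors through an injective one. -/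
theorem exists_injective_lift {X : Type u} [Group X] {E : Type v} [Monoid E] (ρ : X →* E) :
    ∃ ρ' : X ⧸ ρ.ker →* E, Function.Injective ρ' ∧ ∀ x, ρ' (QuotientGroup.mk' ρ.ker x) = ρ x := by
  refine ⟨QuotientGroup.lift ρ.ker ρ le_rfl, fun g g' h => ?_, fun x => rfl⟩
  obtain ⟨g, rfl⟩ := QuotientGroup.mk'_surjective _ g
  obtain ⟨g', rfl⟩ := QuotientGroup.mk'_surjective _ g'
  change ρ g = ρ g' at h
  refine QuotientGroup.eq.mpr (MonoidHom.mem_ker.mpr ?_)
  rw [map_mul, ← h, ← map_mul, inv_mul_cancel, map_one]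

theorem mem_normalizer_map {X Y : Type*} [Group X] [Group Y] (f : X →* Y) {A : Subgroup X} {a : X}
    (ha : a ∈ normalizer (A : Set X)) : f a ∈ normalizer ((A.map f : Subgroup Y) : Set Y) :=
  le_normalizer_map f (mem_map_of_mem f ha)

/-- The representation on the Frattini quotient of a normalised `p`-subgroup. -/
theorem exists_frattini_rep {Γ : Type u} [Group Γ] [Finite Γ] {p : ℕ} [Fact p.Prime]
    {R : Subgroup Γ} (hR : IsPGroup p R) :
    ∃ (V : Type u) (_ : AddCommGroup V) (_ : Finite V) (_ : Module (ZMod p) V)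
      (ρ₀ : normalizer (R : Set Γ) →* Module.End (ZMod p) V) (π : R → V),
      Function.Surjective π ∧ (∀ a b, π (a * b) = π a + π b) ∧
      (∀ a, π a = 0 ↔ a ∈ frattini R) ∧
      ∀ (x : normalizer (R : Set Γ)) (a b : R), (b : Γ) = x * a * (x : Γ)⁻¹ →
        π b = ρ₀ x (π a) := by
  classical
  letI : CommGroup (R ⧸ frattini R) :=
    { QuotientGroup.Quotient.group (frattini R) with mul_comm := PGroup.Frattini.quotient_mul_comm hR }
  let red : MulAut R →* MulAut (R ⧸ frattini R) := MonoidHom.mk'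
    (fun a => QuotientGroup.congr _ _ a (characteristic_iff_map_eq.1 inferInstance a))
    fun a b => MulEquiv.ext fun v => by
      obtain ⟨x, rfl⟩ := QuotientGroup.mk'_surjective _ v
      rfl
  obtain ⟨mod, θ, hθ⟩ := exists_linear (r := p) (PGroup.Frattini.quotient_pow_eq_one hR)
    (red.comp R.normalizerMonoidHom)
  letI := mod
  refine ⟨Additive (R ⧸ frattini R), inferInstance, inferInstance, mod, θ,
    fun a => Additive.ofMul (QuotientGroup.mk a), fun v => ?_, fun a b => rfl, fun a => ?_,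
    fun x a b hab => ?_⟩
  · obtain ⟨a, ha⟩ := QuotientGroup.mk'_surjective (frattini R) v.toMul
    exact ⟨a, congrArg Additive.ofMul ha⟩
  · exact QuotientGroup.eq_one_iff a
  · show Additive.ofMul _ = θ x (Additive.ofMul _)
    rw [hθ]
    exact congrArg (fun r : R => Additive.ofMul (QuotientGroup.mk r : R ⧸ frattini R))
      (Subtype.ext hab)

/-- `D` centralises a two-group on which `g` has small exponent and `[D, D]` is trivial. -/
theorem le_centralizer_of_exponent {Γ : Type u} [Group Γ] [Finite Γ] {g : Γ} {n : ℕ}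
    (hg : g ^ 2 ^ (n + 1) = 1) {R : Subgroup Γ} (hR : IsPGroup 2 R)
    (hgR : g ∈ normalizer (R : Set Γ)) (hexp : ∀ r ∈ R, (r * g) ^ 2 ^ (n + 1) = 1)
    {q : ℕ} [Fact q.Prime] (hq : q ≠ 2) {D : Subgroup Γ} (hD : IsPGroup q D)
    (hgD : g ∈ normalizer (D : Set Γ)) (hDz : ⁅D, zpowers (g ^ 2 ^ n)⁆ = D)
    (hDR : D ≤ normalizer (R : Set Γ)) (hRY : ⁅R, ⁅D, D⁆⁆ = ⊥) :
    D ≤ centralizer (R : Set Γ) := by
  classical
  haveI : Fact (Nat.Prime 2) := ⟨Nat.prime_two⟩
  obtain ⟨V, _, _, _, ρ₀, π, hsurj, hadd, hker, hconj⟩ := exists_frattini_rep hR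
  have hπ1 : π 1 = 0 := (hker 1).2 (one_mem _)
  let g' : normalizer (R : Set Γ) := ⟨g, hgR⟩
  have hnorm : (ρ₀ g' - 1) ^ (2 ^ (n + 1) - 1) = 0 := by
    have hpow : ∀ (a : R) (k : ℕ), ∃ b : R, ((a : Γ) * g) ^ k = b * g ^ k ∧
        π b = (∑ i ∈ Finset.range k, ρ₀ g' ^ i) (π a) := by
      intro a k
      induction k with
      | zero => exact ⟨1, by simp, by simp [hπ1]⟩
      | succ k ih =>
        obtain ⟨b, hb, hπ⟩ := ih
        let c : R := ⟨g ^ k * a * (g ^ k)⁻¹, (mem_normalizer_iff.1 (pow_mem hgR k) a).1 a.2⟩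
        refine ⟨b * c, ?_, ?_⟩
        · rw [pow_succ, hb, pow_succ, Subgroup.coe_mul]
          show _ = (b : Γ) * (g ^ k * a * (g ^ k)⁻¹) * (g ^ k * g)
          group
        · rw [hadd, hπ, hconj (g' ^ k) a c rfl, Finset.sum_range_succ, LinearMap.add_apply, map_pow]
    rw [sub_one_pow_pred_end]
    refine LinearMap.ext fun v => ?_
    obtain ⟨a, rfl⟩ := hsurj v
    obtain ⟨b, hb, hπ⟩ := hpow a (2 ^ (n + 1))
    rw [hexp a a.2, hg, mul_one] at hb
    rw [show b = 1 from Subtype.ext hb.symm, hπ1] at hπ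
    exact hπ.symm
  obtain ⟨ρ', hρ'inj, hρ'⟩ := exists_injective_lift ρ₀
  set f := QuotientGroup.mk' ρ₀.ker with hf
  obtain ⟨W, _, _, _, ρW, hWinj, hWiff⟩ := exists_closure_rep ρ' hρ'inj
  set D' := D.subgroupOf (normalizer (R : Set Γ)) with hD'
  have hgW : f g' ^ 2 ^ (n + 1) = 1 := by
    rw [← map_pow, show g' ^ 2 ^ (n + 1) = 1 from Subtype.ext hg, map_one]
  have hrW : (ρW (f g') - 1) ^ (2 ^ (n + 1) - 1) = 0 := by
    rw [hWiff, hρ']; exact hnorm
  have hD'q : IsPGroup q D' := hD.of_equiv (subgroupOfEquivOfLe hDR).symm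
  have hodd : Odd (Nat.card (D'.map f)) := by
    obtain ⟨i, hi⟩ := IsPGroup.iff_card.1 (hD'q.map f)
    rw [hi]; exact ((Fact.out : q.Prime).odd_of_ne_two hq).pow
  have hfix : ∀ (x : normalizer (R : Set Γ)), (∀ r ∈ R, Commute (x : Γ) r) → f x = 1 := by
    intro x hx
    refine (QuotientGroup.eq_one_iff x).2 (MonoidHom.mem_ker.2 (LinearMap.ext fun v => ?_))
    obtain ⟨a, rfl⟩ := hsurj v
    exact (hconj x a a (by rw [(hx a a.2).eq, mul_inv_cancel_right])).symm
  have hab : ∀ a ∈ D'.map f, ∀ b ∈ D'.map f, a * b = b * a := by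
    rintro _ ⟨a, ha, rfl⟩ _ ⟨b, hb, rfl⟩
    rw [← commutatorElement_eq_one_iff_mul_comm, ← map_commutatorElement]
    refine hfix _ fun r hr => (mem_centralizer_iff.1 (commutator_eq_bot_iff_le_centralizer.1 hRY hr)
      _ (commutator_mem_commutator ha hb))
  have hgD' : g' ∈ normalizer (D' : Set (normalizer (R : Set Γ))) :=
    mem_normalizer_iff.2 fun x => mem_normalizer_iff.1 hgD (x : Γ)
  have hle : D ≤ (ρ₀.ker).map (normalizer (R : Set Γ)).subtype := by
    conv_lhs => rw [← hDz]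
    refine commutator_le.2 fun d hd w hw => ?_
    obtain ⟨i, rfl⟩ := mem_zpowers_iff.1 hw
    refine ⟨⁅(⟨d, hDR hd⟩ : normalizer (R : Set Γ)), (g' ^ 2 ^ n) ^ i⁆, ?_, by
      rw [map_commutatorElement, map_zpow, map_pow]; rfl⟩
    refine (QuotientGroup.eq_one_iff _).1 ((map_commutatorElement f _ _).trans
      (commutatorElement_eq_one_iff_mul_comm.2 ?_))
    rw [map_zpow, map_pow]
    exact ((commute_abelian (n := n) ρW hWinj hgW hrW hodd (mem_normalizer_map f hgD') hab
      (y := f ⟨d, hDR hd⟩) (mem_map_of_mem f hd)).symm.zpow_right i).eq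
  refine Coprime.le_centralizer_of_frattini hDR ?_ fun d hd r hr => ?_
  · obtain ⟨i, hi⟩ := IsPGroup.iff_card.1 hD
    obtain ⟨j, hj⟩ := IsPGroup.iff_card.1 (hR.to_subgroup (frattini R))
    rw [hi, hj]
    exact ((Nat.coprime_primes Fact.out Nat.prime_two).2 hq).pow i j
  · obtain ⟨x, hx, hxd⟩ := hle hd
    let b : R := ⟨d * r * d⁻¹, (mem_normalizer_iff.1 (hDR hd) r).1 hr⟩
    have h1 : π b = π ⟨r, hr⟩ := by
      rw [hconj x ⟨r, hr⟩ b (congrArg (fun w => w * r * w⁻¹) hxd.symm), MonoidHom.mem_ker.1 hx]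
      rfl
    have h2 : π (b * ⟨r, hr⟩⁻¹) = 0 := by
      have h3 := hadd (b * ⟨r, hr⟩⁻¹) ⟨r, hr⟩
      rw [inv_mul_cancel_right, h1, right_eq_add] at h3
      exact h3
    exact ⟨b * ⟨r, hr⟩⁻¹, (hker _).1 h2, by rw [commutatorElement_def]; rfl⟩

section Linear

variable {Γ : Type u} [Group Γ] [Finite Γ] {K : Type v} [Field K] [IsAlgClosed K] [CharP K 2]
  {W : Type w} [AddCommGroup W] [Module K W] [FiniteDimensional K W]

/-- The action on the core for the prime of `D`. -/
theorem commutator_mem_centralizer (ρ : Γ →* Module.End K W) (hinj : Function.Injective ρ) {g : Γ}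
    {n : ℕ} (hg : g ^ 2 ^ (n + 1) = 1) (hr : (ρ g - 1) ^ (2 ^ (n + 1) - 1) = 0) {q : ℕ}
    [Fact q.Prime] (hq : q ≠ 2) {D : Subgroup Γ} (hD : IsPGroup q D)
    (hgD : g ∈ normalizer (D : Set Γ)) (hDz : ⁅D, zpowers (g ^ 2 ^ n)⁆ = D) {O : Subgroup Γ}
    [O.Normal] (hO : IsPGroup q O) {R : Subgroup Γ} (hR : IsPGroup 2 R)
    (hgR : g ∈ normalizer (R : Set Γ)) (hDR : D ≤ normalizer (R : Set Γ)) {y : Γ}
    (hy : y ∈ ⁅D, D⁆) {x : Γ} (hx : x ∈ ⁅R, zpowers y⁆) :
    ⁅g ^ 2 ^ n, x⁆ ∈ centralizer (O : Set Γ) := by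
  classical
  haveI : Fact (Nat.Prime 2) := ⟨Nat.prime_two⟩
  set z := g ^ 2 ^ n with hzdef
  have hz2 : z * z = 1 := top_mul_self hg
  have hyD : y ∈ D := commutator_self_le D hy
  have hyz : Commute y z := ((class_two ρ hinj hg hr hq hD hgD hDz).2 y hy).symm
  -- the group `T = O D`
  set T := O ⊔ D with hT
  have hTq : IsPGroup q T := hO.to_sup_of_normal_left hD
  have hgO : g ∈ normalizer (O : Set Γ) := by rw [normalizer_eq_top]; trivial
  have hgT : g ∈ normalizer (T : Set Γ) :=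
    normalizer_inf_normalizer_le_normalizer_sup O D ⟨hgO, hgD⟩
  have hzT : zpowers z ≤ normalizer (T : Set Γ) := zpowers_le.2 (pow_mem hgT _)
  set DT := ⁅T, zpowers z⁆ with hDT
  have hDTle : DT ≤ T := le_normalizer_iff_commutator_le_left.1 hzT
  have hgDT : g ∈ normalizer (DT : Set Γ) :=
    mem_normalizer_commutator' T (zpowers z) hgT (mem_normalizer_zpowers (Commute.self_pow g _))
  have hcop : (Nat.card (zpowers z)).Coprime (Nat.card T) :=
    coprime_card_of_primes hq.symm (isPGroup_two_zpowers hz2) hTq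
  obtain ⟨hcT, -⟩ := class_two ρ hinj hg hr hq (hTq.to_le hDTle) hgDT
    (Coprime.commutator_commutator_self hzT hcop (.inl (Coprime.isSolvable_zpowers z)))
  have hDDT : D ≤ DT := by
    conv_lhs => rw [← hDz]
    exact commutator_mono le_sup_right le_rfl
  have hyDT' : y ∈ ⁅DT, DT⁆ := commutator_mono hDDT hDDT hy
  have hyy : ∀ o ∈ O, Commute y ⁅y, o⁆ ∧ Commute y ⁅o, z⁆ := fun o ho => by
    have hoT : o ∈ T := mem_sup_left ho
    refine ⟨hcT y hyDT' _ ?_, hcT y hyDT' _ (commutator_mem_commutator hoT (mem_zpowers z))⟩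
    rw [show ⁅y, o⁆ = y * (o * y⁻¹ * o⁻¹) by rw [commutatorElement_def]; group]
    exact mul_mem (hDDT hyD) (le_normalizer_iff.1 (normalizer_commutator_ge_left T (zpowers z))
      o hoT _ (inv_mem (hDDT hyD)))
  -- the representation on the Frattini quotient
  obtain ⟨V, _, _, _, ρ₀, π, hsurj, hadd, hker, hconj⟩ := exists_frattini_rep hO
  have hX : ∀ a : Γ, a ∈ normalizer (O : Set Γ) := fun a => by rw [normalizer_eq_top]; trivial
  set ρO : Γ →* Module.End (ZMod q) V :=
    ρ₀.comp (MonoidHom.mk' (fun a => (⟨a, hX a⟩ : normalizer (O : Set Γ))) fun _ _ => rfl) with hρO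
  have hact : ∀ (a : Γ) (o b : O), (b : Γ) = a * o * a⁻¹ → π b = ρO a (π o) :=
    fun a o b h => hconj ⟨a, hX a⟩ o b h
  have hπinv : ∀ a, π a⁻¹ = -π a := fun a => by
    have h := hadd a⁻¹ a
    rw [inv_mul_cancel, (hker 1).2 (one_mem _)] at h
    exact eq_neg_of_add_eq_zero_left h.symm
  -- displacement as a commutator
  have hdisp : ∀ (a : Γ) (o : O), (ρO a - 1) (π o) =
      π ⟨⁅a, (o : Γ)⁆, by
        rw [commutatorElement_def]
        exact mul_mem ((inferInstance : O.Normal).conj_mem _ o.2 a) (inv_mem o.2)⟩ := by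
    intro a o
    let b : O := ⟨a * o * a⁻¹, (inferInstance : O.Normal).conj_mem _ o.2 a⟩
    rw [LinearMap.sub_apply, Module.End.one_apply, ← hact a o b rfl, sub_eq_add_neg, ← hπinv,
      ← hadd]
    exact congrArg π (Subtype.ext rfl)
  have hkill : ∀ (o : O), Commute y (o : Γ) → (ρO y - 1) (π o) = 0 := fun o h => by
    have e : ∀ hm : ⁅y, (o : Γ)⁆ ∈ O, (⟨⁅y, (o : Γ)⁆, hm⟩ : O) = 1 := fun hm =>
      Subtype.ext (commutatorElement_eq_one_iff_mul_comm.2 h.eq)
    rw [hdisp, hker, e]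
    exact one_mem _
  have h1 : (ρO y - 1) * (ρO y - 1) = 0 := LinearMap.ext fun v => by
    obtain ⟨o, rfl⟩ := hsurj v
    rw [Module.End.mul_apply, hdisp y o]
    exact hkill _ (hyy o o.2).1
  have h2 : (ρO y - 1) * (ρO z - 1) = 0 := LinearMap.ext fun v => by
    obtain ⟨o, rfl⟩ := hsurj v
    rw [Module.End.mul_apply, hdisp z o]
    refine hkill _ ?_
    show Commute y ⁅z, (o : Γ)⁆
    rw [← commutatorElement_inv]
    exact (hyy o o.2).2.inv_right
  obtain ⟨ρ', hρ'inj, hρ'⟩ := exists_injective_lift ρO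
  set f := QuotientGroup.mk' ρO.ker with hf
  have hyodd : Odd (orderOf (f y)) := by
    obtain ⟨i, hi⟩ := IsPGroup.iff_card.1 hD
    have h3 : orderOf (f y) ∣ q ^ i :=
      (orderOf_map_dvd f y).trans (hi ▸ Subgroup.orderOf_dvd_natCard D hyD)
    exact (((Fact.out : q.Prime).odd_of_ne_two hq).pow).of_dvd_nat h3
  have hmain := quadratic_commute (q := q) hq ρ' hρ'inj (y := f y) (z := f z) hyodd
    (by rw [← map_mul, hz2, map_one]) (hyz.map f) (by rw [hρ']; exact h1)
    (by rw [hρ', hρ']; exact h2) (R.map f) (hR.map f) (mem_normalizer_map f (hDR hyD))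
    (mem_normalizer_map f (pow_mem hgR _)) (f x) (by
      rw [← MonoidHom.map_zpowers, ← map_commutator]
      exact mem_map_of_mem f hx)
  have hc : ρO ⁅z, x⁆ = 1 := MonoidHom.mem_ker.1 ((QuotientGroup.eq_one_iff _).1
    ((map_commutatorElement f z x).trans (commutatorElement_eq_one_iff_mul_comm.2 hmain.eq)))
  -- a two-element
  have hxR : x ∈ R := le_normalizer_iff_commutator_le_left.1 (zpowers_le.2 (hDR hyD)) hx
  have hcR : ⁅z, x⁆ ∈ R := by
    rw [commutatorElement_def]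
    exact mul_mem ((mem_normalizer_iff.1 (pow_mem hgR _) x).1 hxR) (inv_mem hxR)
  refine Coprime.le_centralizer_of_frattini (A := zpowers ⁅z, x⁆) ?_ ?_ ?_ (mem_zpowers _)
  · exact zpowers_le.2 (hX _)
  · obtain ⟨j, hj⟩ := IsPGroup.iff_card.1 (hO.to_subgroup (frattini O))
    obtain ⟨k, hk⟩ := IsPGroup.iff_card.1 hR
    rw [hj, Nat.card_zpowers]
    exact (((Nat.coprime_primes Nat.prime_two Fact.out).2 hq.symm).pow k j).coprime_dvd_left
      (hk ▸ Subgroup.orderOf_dvd_natCard R hcR)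
  · intro a ha o ho
    have ha1 : ρO a = 1 := by
      obtain ⟨i, rfl⟩ := mem_zpowers_iff.1 ha
      refine MonoidHom.mem_ker.1 (zpow_mem (MonoidHom.mem_ker.2 hc) i)
    have h3 := hdisp a ⟨o, ho⟩
    rw [ha1, sub_self, LinearMap.zero_apply, eq_comm, hker] at h3
    exact ⟨_, h3, rfl⟩

variable [Group.IsSolvable Γ]

/-- A two-element centralising every core is trivial when there is no normal two-subgroup. -/
theorem eq_one_of_centralizes_cores (hcore : Cfsg.pCore 2 Γ = ⊥) {c : Γ} {k : ℕ}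
    (hc2 : c ^ 2 ^ k = 1)
    (h : ∀ s : ℕ, s.Prime → s ≠ 2 → c ∈ centralizer (Cfsg.pCore s Γ : Set Γ)) : c = 1 := by
  haveI : Fact (Nat.Prime 2) := ⟨Nat.prime_two⟩
  set F := Cfsg.fittingSubgroup Γ with hF
  have hFle : F ≤ centralizer ({c} : Set Γ) := by
    rw [hF, Cores.fittingSubgroup_eq_iSup_pCore]
    refine iSup_le fun s x hx => mem_centralizer_singleton_iff.2 ?_
    by_cases hs : (s : ℕ) = 2
    · rw [hs, hcore, mem_bot] at hx; rw [hx, one_mul, mul_one]
    · exact mem_centralizer_iff.1 (h s s.2 hs) x hx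
  have hcF : c ∈ F := Cores.centralizer_fittingSubgroup_le (mem_centralizer_iff.2 fun x hx =>
    mem_centralizer_singleton_iff.1 (hFle hx))
  have hFcore : F ≤ Cfsg.pPrimeCore 2 Γ := by
    rw [hF, Cores.fittingSubgroup_eq_iSup_pCore]
    refine iSup_le fun s => ?_
    haveI := Fact.mk s.2
    by_cases hs : (s : ℕ) = 2
    · rw [hs, hcore]; exact bot_le
    · exact Cores.pCore_le_pPrimeCore Nat.prime_two hs
  have h1 := (Cores.coprime_card_pPrimeCore (G := Γ) 2).pow_right k
  exact orderOf_eq_one_iff.1 (Nat.eq_one_of_dvd_coprimes h1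
    (Subgroup.orderOf_dvd_natCard _ (hFcore hcF)) (orderOf_dvd_of_pow_eq_one hc2))

/-- The key claim: tops of two-elements lie in `O_{2',2}`. -/
theorem top_mem_upper (hcore : Cfsg.pCore 2 Γ = ⊥) (ρ : Γ →* Module.End K W)
    (hinj : Function.Injective ρ) {n : ℕ}
    (hexp : ∀ P : Sylow 2 Γ, ∀ x ∈ (P : Subgroup Γ), x ^ 2 ^ (n + 1) = 1)
    (hnorm : ∀ x : Γ, IsPGroup 2 (zpowers x) → (ρ x - 1) ^ (2 ^ (n + 1) - 1) = 0)
    (S : Sylow 2 Γ) {s : Γ} (hsS : s ∈ (S : Subgroup Γ)) :
    s ^ 2 ^ n ∈ (Cfsg.upperPSeries 2 Γ 2).1 := by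
  classical
  haveI : Fact (Nat.Prime 2) := ⟨Nat.prime_two⟩
  set M := (Cfsg.upperPSeries 2 Γ 2).1 with hM
  haveI : M.Normal := (Cfsg.upperPSeries 2 Γ 2).2
  set mk := QuotientGroup.mk' M with hmk
  set M₃ := (Cfsg.pPrimeCore 2 (Γ ⧸ M)).comap mk with hM₃
  haveI : M₃.Normal := Normal.comap inferInstance _
  have hMM₃ : M ≤ M₃ := fun x hx => by
    show mk x ∈ Cfsg.pPrimeCore 2 (Γ ⧸ M)
    rw [show mk x = 1 from (QuotientGroup.eq_one_iff x).2 hx]
    exact one_mem _
  set R := (S : Subgroup Γ) ⊓ M with hR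
  have hRp : IsPGroup 2 R := S.isPGroup'.to_le inf_le_left
  set X := normalizer (R : Set Γ) with hX
  have hRX : R ≤ X := le_normalizer
  have hSX : ∀ x ∈ (S : Subgroup Γ), x ∈ X := fun x hx => inf_normalizer_le_normalizer_inf
    ⟨le_normalizer hx, by rw [normalizer_eq_top]; trivial⟩
  obtain ⟨SM, hSM⟩ := Coprime.exists_sylow_map_eq (inf_le_right : R ≤ M)
    (Coprime.card_sylow_inf_normal S M)
  have hfrat : X ⊔ M = ⊤ := by
    have := Sylow.normalizer_sup_eq_top SM
    rwa [hSM] at this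
  -- the complement
  set N := M₃ ⊓ X with hN
  have hRN : R ≤ N := le_inf (inf_le_right.trans hMM₃) hRX
  have hM₃cop : (M.relIndex M₃).Coprime 2 := by
    rw [show M.relIndex M₃ = ((⊥ : Subgroup (Γ ⧸ M)).comap mk).relIndex M₃ by
      rw [MonoidHom.comap_bot, QuotientGroup.ker_mk'], relIndex_comap, hM₃,
      map_comap_eq_self_of_surjective (QuotientGroup.mk'_surjective M), relIndex_bot_left]
    exact Cores.coprime_card_pPrimeCore 2
  have hRM : ¬ 2 ∣ R.relIndex M := by
    have h2 := SM.not_dvd_index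
    have h3 : (R.subgroupOf M) = (SM : Subgroup M) := by
      rw [hR, ← hSM, subgroupOf, comap_map_eq_self_of_injective M.subtype_injective]
    rwa [show R.relIndex M = (SM : Subgroup M).index by rw [relIndex, h3]]
  have hidx : (Nat.card (R.subgroupOf N)).Coprime (R.subgroupOf N).index := by
    obtain ⟨i, hi⟩ := IsPGroup.iff_card.1 hRp
    rw [Nat.card_congr (subgroupOfEquivOfLe hRN).toEquiv, hi]
    refine Nat.Coprime.pow_left i ?_
    show Nat.Coprime 2 (R.relIndex N)
    have h1 : ¬ 2 ∣ R.relIndex M := hRM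
    have h4 : R.relIndex N ∣ R.relIndex M₃ :=
      ⟨_, (relIndex_mul_relIndex R N M₃ hRN inf_le_left).symm⟩
    refine Nat.Coprime.coprime_dvd_right h4 ?_
    rw [← relIndex_mul_relIndex R M M₃ inf_le_right hMM₃]
    exact ((Nat.prime_two.coprime_iff_not_dvd).2 h1).mul_right hM₃cop.symm
  haveI : (R.subgroupOf N).Normal := (normal_subgroupOf_iff_le_normalizer hRN).2 inf_le_right
  obtain ⟨B₀, hB₀⟩ := exists_right_complement'_of_coprime hidx
  set B := B₀.map N.subtype with hB
  have hBN : B ≤ N := map_subtype_le _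
  have hcardB : Nat.card B = R.relIndex N := by
    have h1 : Nat.card B₀ = (R.subgroupOf N).index := hB₀.symm.index_eq_card.symm
    rw [hB, Coprime.card_map_subtype, h1, relIndex]
  have hBR : N ≤ R ⊔ B := by
    have h1 := congrArg (Subgroup.map N.subtype) hB₀.sup_eq_top
    rw [Subgroup.map_sup, subgroupOf_map_subtype, inf_eq_left.2 hRN, ← MonoidHom.range_eq_map,
      range_subtype] at h1
    exact h1.ge
  have hcopRB : (Nat.card R).Coprime (Nat.card B) := by
    rw [hcardB, ← Nat.card_congr (subgroupOfEquivOfLe hRN).toEquiv]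
    exact hidx
  -- an element of the coset normalising the complement
  set C := B.map (MulAut.conj s).toMonoidHom with hC
  have hsN : s ∈ normalizer (N : Set Γ) := inf_normalizer_le_normalizer_inf
    ⟨by rw [normalizer_eq_top]; trivial, le_normalizer (hSX s hsS)⟩
  have hCN : C ≤ N := by
    rintro _ ⟨b, hb, rfl⟩
    exact (mem_normalizer_iff.1 hsN b).1 (hBN hb)
  obtain ⟨r, hrR, hr⟩ := Coprime.exists_conj_eq (N := R) (H := C) (K := B)
    (.inl (haveI := hRp.isNilpotent; inferInstance)) (hCN.trans inf_le_right)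
    (hBN.trans inf_le_right) (hCN.trans hBR)
    (Coprime.card_conj_map B s) (by rw [Coprime.card_conj_map B s]; exact hcopRB)
  set t := r * s with ht
  have htS : t ∈ (S : Subgroup Γ) := mul_mem hrR.1 hsS
  have htB : t ∈ normalizer (B : Set Γ) := by
    rw [mem_normalizer_iff_map_conj_eq, ht, map_mul]
    conv_rhs => rw [← hr, hC, map_map]
    rfl
  have htX : t ∈ X := hSX t htS
  have ht2 : t ^ 2 ^ (n + 1) = 1 := hexp S t htS
  have htz : IsPGroup 2 (zpowers t) := S.isPGroup'.to_le (zpowers_le.2 htS)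
  have hrt : (ρ t - 1) ^ (2 ^ (n + 1) - 1) = 0 := hnorm t htz
  set z := t ^ 2 ^ n with hzdef
  have hz2 : z * z = 1 := top_mul_self ht2
  suffices hzM : z ∈ M by
    have h1 : mk s ^ 2 ^ n = mk z := by
      rw [hzdef, ht, map_pow, map_mul, show mk r = 1 from (QuotientGroup.eq_one_iff r).2 hrR.2,
        one_mul]
    refine (QuotientGroup.eq_one_iff _).1 ?_
    show mk (s ^ 2 ^ n) = 1
    rw [map_pow, h1]
    exact (QuotientGroup.eq_one_iff z).2 hzM
  by_contra hzM
  -- every invariant Sylow subgroup of `B` is centralised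
  have hB2 : Nat.Coprime 2 (Nat.card B) := by
    rw [hcardB]
    obtain ⟨j, hj⟩ := IsPGroup.iff_card.1 hRp
    rcases Nat.eq_zero_or_pos j with h0 | h0
    · refine Nat.Coprime.coprime_dvd_right
        (⟨_, (relIndex_mul_relIndex R N M₃ hRN inf_le_left).symm⟩ : R.relIndex N ∣ R.relIndex M₃) ?_
      rw [← relIndex_mul_relIndex R M M₃ inf_le_right hMM₃]
      exact (Nat.prime_two.coprime_iff_not_dvd.2 hRM).mul_right hM₃cop.symm
    · exact Nat.Coprime.coprime_dvd_left (hj ▸ dvd_pow_self 2 h0.ne')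
        (hcardB ▸ hcopRB)
  have hcopzB : (Nat.card (zpowers t)).Coprime (Nat.card B) := by
    obtain ⟨i, hi⟩ := IsPGroup.iff_card.1 htz
    rw [hi]
    exact hB2.pow_left i
  have key : ∀ q : ℕ, q.Prime → q ≠ 2 → ∀ P : Subgroup Γ, P ≤ B → IsPGroup q P →
      t ∈ normalizer (P : Set Γ) → ∀ x ∈ P, ⁅z, x⁆ ∈ M := by
    intro q hqp hq P hPB hP htP x hx
    haveI := Fact.mk hqp
    have hzP : zpowers z ≤ normalizer (P : Set Γ) := zpowers_le.2 (pow_mem htP _)
    set D := ⁅P, zpowers z⁆ with hD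
    have hDP : D ≤ P := le_normalizer_iff_commutator_le_left.1 hzP
    have hDq : IsPGroup q D := hP.to_le hDP
    have htD : t ∈ normalizer (D : Set Γ) :=
      mem_normalizer_commutator' P (zpowers z) htP (mem_normalizer_zpowers (Commute.self_pow t _))
    have hDz : ⁅D, zpowers z⁆ = D := Coprime.commutator_commutator_self hzP
      (coprime_card_of_primes hq.symm (isPGroup_two_zpowers hz2) hP)
      (.inl (Coprime.isSolvable_zpowers z))
    have hDX : D ≤ X := hDP.trans (hPB.trans (hBN.trans inf_le_right))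
    obtain ⟨hYc, hzY⟩ := class_two ρ hinj ht2 hrt hq hDq htD hDz
    have hYD : ⁅D, D⁆ ≤ D := commutator_self_le D
    -- `[R, D, D]`
    have hfix : ∀ y ∈ ⁅D, D⁆, ∀ x ∈ ⁅R, zpowers y⁆, Commute z x := by
      intro y hy x hx
      have hxR : x ∈ R := le_normalizer_iff_commutator_le_left.1 (zpowers_le.2 (hDX (hYD hy))) hx
      have hcR : ⁅z, x⁆ ∈ R := by
        rw [commutatorElement_def]
        exact mul_mem ((mem_normalizer_iff.1 (pow_mem htX _) x).1 hxR) (inv_mem hxR)
      refine commutatorElement_eq_one_iff_mul_comm.1 (eq_one_of_centralizes_cores hcore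
        (k := n + 1) (hexp S _ hcR.1) fun l hl hl2 => ?_)
      haveI := Fact.mk hl
      by_cases hlq : l = q
      · subst hlq
        exact commutator_mem_centralizer ρ hinj ht2 hrt hq hDq htD hDz
          (Cores.isPGroup_pCore l) hRp htX hDX hy hx
      · have hstep := step ρ hinj ht2 hrt hq hl2 hlq hDq htD hDz (Cfsg.pCore l Γ)
          (Cores.isPGroup_pCore l) (by rw [normalizer_eq_top]; exact le_top)
          (by rw [normalizer_eq_top]; trivial)
        rw [commutator_comm, commutator_eq_bot_iff_le_centralizer] at hstep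
        have hnc : ∀ a : Γ, ∀ b ∈ centralizer (Cfsg.pCore l Γ : Set Γ),
            a * b * a⁻¹ ∈ centralizer (Cfsg.pCore l Γ : Set Γ) := fun a b hb =>
          (inferInstance : (centralizer (Cfsg.pCore l Γ : Set Γ)).Normal).conj_mem b hb a
        have hxC : x ∈ centralizer (Cfsg.pCore l Γ : Set Γ) :=
          ((commutator_mono le_rfl (zpowers_le.2 (hstep hy))).trans
            (commutator_le_right R (centralizer (Cfsg.pCore l Γ : Set Γ)))) hx
        rw [commutatorElement_def]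
        exact mul_mem (hnc z x hxC) (inv_mem hxC)
    have hYR : ⁅D, D⁆ ≤ X := hYD.trans hDX
    have hNle : ⁅R, ⁅D, D⁆⁆ ≤ R := le_normalizer_iff_commutator_le_left.1 hYR
    have hcop : ∀ A : Subgroup Γ, IsPGroup 2 A → (Nat.card ↥⁅D, D⁆).Coprime (Nat.card A) :=
      fun A hA => coprime_card_of_primes hq (hDq.to_le hYD) hA
    have h0 : ⁅⁅R, ⁅D, D⁆⁆, zpowers z⁆ = ⊥ := commutator_zpowers_eq_bot fun a ha => by
      induction ha using closure_induction with
      | mem a ha =>
        obtain ⟨r', hr', y, hy, rfl⟩ := ha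
        exact hfix y hy _ (commutator_mem_commutator hr' (mem_zpowers y))
      | one => exact Commute.one_right z
      | mul a b _ _ ha hb => exact ha.mul_right hb
      | inv a _ ha => exact ha.inv_right
    have h1 : ⁅⁅R, ⁅D, D⁆⁆, D⁆ = ⊥ := commutator_eq_bot_of_commutator_eq h0
      (fun d hd => mem_normalizer_commutator' R ⁅D, D⁆ (hDX hd)
        (centralizer_le_normalizer _ (mem_centralizer_iff.2 fun c hc => (hYc c hc d hd).eq))) hDz
    have h2 : ⁅R, ⁅D, D⁆⁆ = ⊥ := Coprime.commutator_eq_bot_of_commutator_commutator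
      (hcop _ (hRp.to_le hNle)) (eq_bot_iff.2 ((commutator_mono le_rfl hYD).trans h1.le))
    have h3 := le_centralizer_of_exponent ht2 hRp htX
      (fun r' hr' => hexp S _ (mul_mem hr'.1 htS)) hq hDq htD hDz hDX h2
    -- `D ≤ M`
    set M₁ := (Cfsg.upperPSeries 2 Γ 1).1 with hM₁
    haveI : M₁.Normal := (Cfsg.upperPSeries 2 Γ 1).2
    set f := QuotientGroup.mk' M₁
    have hMeq : M = (Cfsg.pCore 2 (Γ ⧸ M₁)).comap f := upper_even 0
    have hDM : D ≤ M := by
      intro d hd
      rw [hMeq]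
      refine PGroup.FrattiniFaithful.mem_pCore_of_commutator_mem
        (Fusion.PSolvable.psolvable_of_solvable (G := Γ ⧸ M₁)) pPrimeCore_mod_upper_one (f d)
        fun a ha => ?_
      have ha' := Cores.pCore_le_sylow (S.mapSurjective (QuotientGroup.mk'_surjective M₁)) ha
      rw [Sylow.coe_mapSurjective] at ha'
      obtain ⟨w, hw, rfl⟩ := ha'
      have hwM : w ∈ M := by rw [hMeq]; exact ha
      rw [← map_commutatorElement,
        commutatorElement_eq_one_iff_mul_comm.2 (mem_centralizer_iff.1 (h3 hd) w ⟨hw, hwM⟩).symm,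
        map_one]
      exact one_mem _
    rw [← commutatorElement_inv]
    exact inv_mem (hDM (commutator_mem_commutator hx (mem_zpowers z)))
  -- hence `z` centralises `M₃ / M`
  set C₀ := (centralizer ({mk z} : Set (Γ ⧸ M))).comap mk with hC₀
  have hC₀' : ∀ x, ⁅z, x⁆ ∈ M → x ∈ C₀ := fun x hx => by
    refine mem_comap.2 (mem_centralizer_singleton_iff.2 ?_)
    refine (commutatorElement_eq_one_iff_mul_comm.1 ((map_commutatorElement mk z x).symm.trans
      ((QuotientGroup.eq_one_iff _).2 hx))).symm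
  have hBC : B ⊓ C₀ = B := by
    refine eq_of_le_of_card_ge inf_le_left (Nat.le_of_dvd Nat.card_pos ?_)
    refine (Nat.dvd_iff_prime_pow_dvd_dvd _ _).2 fun q k hq hqk => ?_
    haveI : Fact q.Prime := ⟨hq⟩
    obtain ⟨P, hP⟩ := Coprime.exists_invariant_sylow (A := zpowers t) (K := B)
      (zpowers_le.2 htB) hcopzB (.inl (Coprime.isSolvable_zpowers t)) q
    refine (P.pow_dvd_card_of_pow_dvd_card hqk).trans ?_
    rcases eq_or_ne q 2 with rfl | hq2
    · obtain ⟨j, hj⟩ := IsPGroup.iff_card.1 hRp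
      rcases Nat.eq_zero_or_pos k with rfl | hk
      · have hP1 : Nat.card (P : Subgroup B) = 1 := by
          rw [P.card_eq_multiplicity, Nat.factorization_eq_zero_of_not_dvd, pow_zero]
          intro h2
          exact Nat.prime_two.one_lt.ne' (Nat.eq_one_of_dvd_coprimes hB2 dvd_rfl h2)
        rw [hP1]; exact one_dvd _
      · exfalso
        exact Nat.prime_two.one_lt.ne' (Nat.eq_one_of_dvd_coprimes hB2 dvd_rfl
          ((dvd_pow_self 2 hk.ne').trans hqk))
    · have h2 := key q hq hq2 _ (map_subtype_le _) (P.isPGroup'.map B.subtype)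
        (hP (mem_zpowers t))
      have h3 : (P : Subgroup B).map B.subtype ≤ B ⊓ C₀ := fun x hx =>
        ⟨map_subtype_le _ hx, hC₀' x (h2 x hx)⟩
      have h4 := card_dvd_of_le h3
      rwa [card_map_of_injective B.subtype_injective] at h4
  have hM₃C : M₃ ≤ C₀ := by
    intro x hx
    have hxXM : x ∈ M ⊔ X := by rw [sup_comm, hfrat]; trivial
    obtain ⟨a, ha, b, hb, rfl⟩ := mem_sup_of_normal_left.1 hxXM
    have hbN : b ∈ N := ⟨(mul_mem_cancel_left (hMM₃ ha)).1 hx, hb⟩
    have hker : M ≤ C₀ := fun w hw => by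
      refine mem_comap.2 (mem_centralizer_singleton_iff.2 ?_)
      rw [show mk w = 1 from (QuotientGroup.eq_one_iff w).2 hw, one_mul, mul_one]
    refine mul_mem (hker ha) ((sup_le (inf_le_right.trans hker) ?_ : R ⊔ B ≤ C₀) (hBR hbN))
    exact hBC.ge.trans inf_le_right
  have hzc : mk z ∈ Cfsg.pPrimeCore 2 (Γ ⧸ M) :=
    Fusion.FailureFactor.centralizer_pPrimeCore_le
      (Fusion.PSolvable.psolvable_of_solvable (G := Γ ⧸ M)) pCore_mod_upper_two
      (mem_centralizer_iff.2 fun a ha => by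
        obtain ⟨x, rfl⟩ := QuotientGroup.mk'_surjective M a
        exact mem_centralizer_singleton_iff.1 (mem_comap.1 (hM₃C ha)))
  refine hzM ((QuotientGroup.eq_one_iff z).1 (orderOf_eq_one_iff.1 (Nat.eq_one_of_dvd_coprimes
    ((Cores.coprime_card_pPrimeCore (G := Γ ⧸ M) 2)) (Subgroup.orderOf_dvd_natCard _ hzc)
    (orderOf_dvd_of_pow_eq_one (show mk z ^ 2 = 1 by rw [pow_two, ← map_mul, hz2, map_one])))))

end Linear

theorem pLengthLE_of_exponent {e : ℕ} : ∀ {G : Type u} [Group G] [Finite G],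
    Group.IsSolvable G → (∀ P : Sylow 2 G, ∀ x ∈ (P : Subgroup G), x ^ 2 ^ (e + 1) = 1) →
    Cfsg.PLengthLE 2 (2 * e + 1) G := by
  haveI : Fact (Nat.Prime 2) := ⟨Nat.prime_two⟩
  induction e with
  | zero =>
    intro G _ _ hsol hexp
    haveI := hsol
    refine pLengthLE_succ (pLengthLE_zero fun P x hx => ?_)
    rw [pow_zero, pow_one]
    obtain ⟨V, _, _, _, ρ₀, π, hinj, hsurj, hadd, hconj⟩ :=
      exists_layer_rep (p := 2) (Fusion.PSolvable.psolvable_of_solvable (G := G))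
    have h := norm_eq_zero_of_exponent ρ₀ π hsurj hadd hconj hexp (x := x)
      (P.isPGroup'.to_le (zpowers_le.2 hx))
    rw [show (2 : ℕ) ^ (0 + 1) - 1 = 1 from rfl, pow_one, sub_eq_zero] at h
    exact hinj (h.trans (map_one ρ₀).symm)
  | succ e ih =>
    intro G _ _ hsol hexp
    haveI := hsol
    refine pLengthLE_succ (G := G) (k := 2 * e + 2) (pLengthLE_succ (k := 2 * e + 1) ?_)
    set U := (Cfsg.upperPSeries 2 G 2).1
    haveI : U.Normal := (Cfsg.upperPSeries 2 G 2).2
    haveI : ((Cfsg.upperPSeries 2 (G ⧸ U) 2).1).Normal := (Cfsg.upperPSeries 2 (G ⧸ U) 2).2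
    obtain ⟨V, _, _, _, ρ₀, π, hinj, hsurj, hadd, hconj⟩ :=
      exists_layer_rep (p := 2) (Fusion.PSolvable.psolvable_of_solvable (G := G))
    obtain ⟨W, _, _, _, ρ, hρinj, hρiff⟩ := exists_closure_rep ρ₀ hinj
    have hH := sylow_exponent_quotient (QuotientGroup.mk' U) (QuotientGroup.mk'_surjective U) hexp
    refine ih inferInstance fun Q x hx => ?_
    obtain ⟨S, hS⟩ := exists_sylow_lift _ (QuotientGroup.mk'_surjective _) Q.isPGroup'
    obtain ⟨s, hs, rfl⟩ := hS hx
    rw [← map_pow]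
    exact (QuotientGroup.eq_one_iff _).2 (top_mem_upper pCore_mod_upper_two ρ hρinj (n := e + 1)
      hH (fun x hx => (hρiff x _).2 (norm_eq_zero_of_exponent ρ₀ π hsurj hadd hconj hexp hx)) S hs)

end CfsgLib.Solvable.TwoLength
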