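import Mathlib

/-!
# Odd `q`-groups normalised by a free cyclic two-group on a plane

A group `V` of order `s ^ 2` and exponent `s`, an element `h` acting freely with `s + 1 = 2 ^ f` its
order, and an odd `q`-group `Y` normalised by `h` that preserves a nondegenerate alternating form:
then `Y` acts trivially.
-/

set_option autoImplicit false

namespace CfsgLib.Solvable.TwoLength

open Subgroup

variable {V : Type*} [CommGroup V] [Finite V] {s : ℕ} [Fact s.Prime]

theorem orderOf_eq_of_pow_eq_one (hexp : ∀ v : V, v ^ s = 1) {u : V} (hu : u ≠ 1) : orderOf u = s :=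
  orderOf_eq_prime (hexp u) hu

theorem pow_eq_pow_iff_cast (hexp : ∀ v : V, v ^ s = 1) {u : V} (hu : u ≠ 1) {a b : ℕ} :
    u ^ a = u ^ b ↔ (a : ZMod s) = b := by
  rw [pow_eq_pow_iff_modEq, orderOf_eq_of_pow_eq_one hexp hu, ZMod.natCast_eq_natCast_iff]

theorem exists_pow_eq (hexp : ∀ v : V, v ^ s = 1) {u : V} (hu : u ≠ 1) {v : V}
    (hv : v ∈ zpowers u) : ∃ a : ℕ, v = u ^ a := by
  rw [← (isOfFinOrder_of_finite u).mem_powers_iff_mem_zpowers] at hv
  obtain ⟨a, rfl⟩ := hv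
  exact ⟨a, rfl⟩

/-- Coordinates in a basis are unique. -/
theorem coord_unique (hexp : ∀ v : V, v ^ s = 1) {u v : V} (hu : u ≠ 1) (hv : v ∉ zpowers u)
    {a b a' b' : ℕ} (h : u ^ a * v ^ b = u ^ a' * v ^ b') :
    (a : ZMod s) = a' ∧ (b : ZMod s) = b' := by
  have hv1 : v ≠ 1 := fun h0 => hv (h0 ▸ one_mem _)
  have hb : (b : ZMod s) = b' := by
    by_contra hne
    obtain ⟨k, hk⟩ := ZMod.natCast_zmod_surjective (n := s) (((b : ZMod s) - b')⁻¹)
    have h1 : v ^ b * (v ^ b')⁻¹ ∈ zpowers u := by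
      rw [show v ^ b * (v ^ b')⁻¹ = u ^ a' * (u ^ a)⁻¹ by
        rw [← div_eq_mul_inv, ← div_eq_mul_inv, div_eq_div_iff_mul_eq_mul, mul_comm (v ^ b), h]]
      exact mul_mem (pow_mem (mem_zpowers u) _) (inv_mem (pow_mem (mem_zpowers u) _))
    refine hv ?_
    have h2 := pow_mem h1 k
    have e : (v ^ b * (v ^ b')⁻¹) ^ k = v := by
      rw [mul_pow, inv_pow, ← pow_mul, ← pow_mul, mul_inv_eq_iff_eq_mul, ← pow_succ',
        pow_eq_pow_iff_cast hexp hv1]
      push_cast
      rw [hk]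
      field_simp [sub_ne_zero.2 hne]
      ring
    rwa [e] at h2
  refine ⟨?_, hb⟩
  rw [(pow_eq_pow_iff_cast hexp hv1).2 hb, mul_left_inj] at h
  exact (pow_eq_pow_iff_cast hexp hu).1 h

/-- A unit of odd multiplicative order whose square is one. -/
theorem eq_one_of_odd_pow {F : Type*} [Field F] {c : F} {o : ℕ} (ho : Odd o) (hc : c ^ o = 1)
    (h2 : c * c = 1) : c = 1 := by
  obtain ⟨i, rfl⟩ := ho
  rwa [pow_succ, pow_mul, pow_two, h2, one_pow, one_mul] at hc

variable {A : Type*} [Group A] [Finite A] (φ : A →* MulAut V)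

/-- The plane lemma. -/
theorem plane_trivial {Y : Subgroup A} {q : ℕ} [Fact q.Prime] (hY : IsPGroup q Y) (hq : q ≠ 2)
    (hs : s ≠ 2) (hcard : Nat.card V = s ^ 2) (hexp : ∀ v : V, v ^ s = 1) {h : A} {f : ℕ}
    (hf : s + 1 = 2 ^ f) (hh : h ^ (s + 1) = 1) (hhY : h ∈ normalizer (Y : Set A))
    (hfree : ∀ i, 0 < i → i < s + 1 → ∀ v : V, φ (h ^ i) v = v → v = 1)
    (hdet : ∀ y ∈ Y, ∀ (u v : V) (c c' : ℕ), u ≠ 1 → v ∉ zpowers u → φ y u = u ^ c →
      φ y v = v ^ c' → (c : ZMod s) * c' = 1) :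
    ∀ y ∈ Y, ∀ v : V, φ y v = v := by
  classical
  have hsp : s.Prime := Fact.out
  have hs3 : 3 ≤ s := by have := hsp.two_le; omega
  have hφpow : ∀ (a : A) (u : V) (c : ℕ), φ a u = u ^ c → ∀ k, φ (a ^ k) u = u ^ c ^ k := by
    intro a u c hc k
    induction k with
    | zero => simp
    | succ k ih => rw [pow_succ', map_mul, MulAut.mul_apply, ih, map_pow, hc, ← pow_mul, pow_succ']
  -- a fixed line
  let Lines := {L : Subgroup V // Nat.card L = s}
  letI : MulAction Y Lines :=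
    { smul := fun y L => ⟨L.1.map (φ (y : A)).toMonoidHom, by
        rw [card_map_of_injective (φ (y : A)).injective]; exact L.2⟩
      one_smul := fun L => Subtype.ext (by
        show L.1.map (φ ((1 : Y) : A)).toMonoidHom = L.1
        rw [Subgroup.coe_one, map_one]; exact map_id _)
      mul_smul := fun x y L => Subtype.ext (by
        show L.1.map (φ ((x * y : Y) : A)).toMonoidHom =
          (L.1.map (φ (y : A)).toMonoidHom).map (φ (x : A)).toMonoidHom
        rw [Subgroup.coe_mul, map_mul, map_map]; rfl) }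
  have hlines : Nat.card Lines * (s - 1) = s ^ 2 - 1 := by
    cases nonempty_fintype V
    let Φ : (Σ L : Lines, {v : L.1 // v ≠ 1}) → {v : V // v ≠ 1} := fun x =>
      ⟨x.2.1.1, fun h0 => x.2.2 (Subtype.ext h0)⟩
    have hzp : ∀ (L : Lines) (v : L.1), v ≠ 1 → L.1 = zpowers (v : V) := fun L v hv =>
      (eq_of_le_of_card_ge (zpowers_le.2 v.2) (by
        rw [L.2, Nat.card_zpowers, orderOf_eq_of_pow_eq_one hexp fun h0 => hv (Subtype.ext h0)])).symm
    have hΦ : Function.Bijective Φ := by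
      refine ⟨fun ⟨L, v⟩ ⟨L', v'⟩ he => ?_, fun ⟨v, hv⟩ => ⟨⟨⟨zpowers v, by
        rw [Nat.card_zpowers, orderOf_eq_of_pow_eq_one hexp hv]⟩, ⟨v, mem_zpowers v⟩,
        fun h0 => hv (congrArg Subtype.val h0)⟩, rfl⟩⟩
      have he' : (v.1 : V) = v'.1 := congrArg Subtype.val he
      have hL : L = L' := Subtype.ext (by rw [hzp L v.1 v.2, hzp L' v'.1 v'.2, he'])
      subst hL
      exact congrArg _ (Subtype.ext (Subtype.ext he'))
    have h1 := Nat.card_eq_of_bijective Φ hΦ
    have hne : ∀ (G : Type _) [Group G] [Finite G], Nat.card {v : G // v ≠ 1} = Nat.card G - 1 := by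
      intro G _ _
      cases nonempty_fintype G
      rw [Nat.card_eq_fintype_card, Nat.card_eq_fintype_card, Fintype.card_subtype_compl,
        Fintype.card_subtype_eq]
    cases nonempty_fintype Lines
    rw [Nat.card_sigma, hne V, hcard] at h1
    rw [← h1, Finset.sum_congr rfl (fun L _ => by rw [hne L.1, L.2]), Finset.sum_const,
      Finset.card_univ, smul_eq_mul, Nat.card_eq_fintype_card]
  have hnum : Nat.card Lines = s + 1 := by
    have e : s ^ 2 - 1 = (s + 1) * (s - 1) := by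
      rw [← Nat.mul_self_sub_mul_self_eq, one_mul, pow_two]
    rw [e] at hlines
    exact Nat.eq_of_mul_eq_mul_right (by omega) hlines
  obtain ⟨L₀, hL₀⟩ : (MulAction.fixedPoints Y Lines).Nonempty := by
    refine hY.nonempty_fixed_point_of_prime_not_dvd_card Lines fun hd => ?_
    rw [hnum, hf] at hd
    exact hq ((Nat.prime_dvd_prime_iff_eq Fact.out Nat.prime_two).1 ((Fact.out : q.Prime).dvd_of_dvd_pow hd))
  obtain ⟨u, huL, hu⟩ : ∃ u ∈ L₀.1, u ≠ 1 :=
    (bot_or_exists_ne_one L₀.1).resolve_left fun h0 => by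
      have := L₀.2; rw [h0, card_bot] at this; omega
  have hL₀u : L₀.1 = zpowers u := (eq_of_le_of_card_ge (zpowers_le.2 huL) (by
    rw [L₀.2, Nat.card_zpowers, orderOf_eq_of_pow_eq_one hexp hu])).symm
  have hfix : ∀ y ∈ Y, ∃ c : ℕ, φ y u = u ^ c := fun y hy => exists_pow_eq hexp hu (by
    rw [← hL₀u, ← congrArg Subtype.val (hL₀ ⟨y, hy⟩)]
    exact ⟨u, huL, rfl⟩)
  have hfix' : ∀ (a : V), (∀ y ∈ Y, ∃ c : ℕ, φ y a = a ^ c) →
      ∀ y ∈ Y, ∃ c : ℕ, φ y (φ h a) = φ h a ^ c := by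
    intro a ha y hy
    obtain ⟨c, hc⟩ := ha (h⁻¹ * y * h) (by
      have := (mem_normalizer_iff.1 (inv_mem hhY) y).1 hy
      rwa [inv_inv] at this)
    refine ⟨c, ?_⟩
    rw [← map_pow, ← hc, ← MulAut.mul_apply, ← map_mul, ← MulAut.mul_apply, ← map_mul]
    congr 2; group
  -- a second fixed line
  set u' := φ h u with hu'def
  have hu' : u' ≠ 1 := fun h0 => hu ((φ h).injective (by rw [← hu'def, h0, map_one]))
  have hind : u' ∉ zpowers u := by
    intro hmem
    obtain ⟨e, he⟩ := exists_pow_eq hexp hu hmem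
    refine hu (hfree (s - 1) (by omega) (by omega) u ?_)
    rw [hφpow h u e he]
    conv_rhs => rw [← pow_one u]
    rw [pow_eq_pow_iff_cast hexp hu, Nat.cast_one, Nat.cast_pow]
    refine ZMod.pow_card_sub_one_eq_one fun h0 => hu' ?_
    rw [he, show u ^ e = u ^ 0 from (pow_eq_pow_iff_cast hexp hu).2 (by rw [h0, Nat.cast_zero]),
      pow_zero]
  have hgen : zpowers u ⊔ zpowers u' = ⊤ := by
    have h1 : s * s ≤ Nat.card ↥(zpowers u ⊔ zpowers u') := by
      obtain ⟨k, hk⟩ := card_dvd_of_le (le_sup_left : zpowers u ≤ zpowers u ⊔ zpowers u')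
      rw [Nat.card_zpowers, orderOf_eq_of_pow_eq_one hexp hu] at hk
      obtain ⟨m, hm2, hm⟩ := (Nat.dvd_prime_pow hsp).1
        (hcard ▸ card_subgroup_dvd_card (zpowers u ⊔ zpowers u'))
      rcases Nat.lt_or_ge m 2 with hm1 | hm1
      · have hle : Nat.card ↥(zpowers u ⊔ zpowers u') ≤ Nat.card (zpowers u) := by
          rw [hm, Nat.card_zpowers, orderOf_eq_of_pow_eq_one hexp hu]
          exact (Nat.pow_le_pow_right hsp.pos (show m ≤ 1 by omega)).trans (pow_one s).le
        exact absurd (le_sup_right.trans (eq_of_le_of_card_ge le_sup_left hle).ge (mem_zpowers u'))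
          hind
      · rw [hm, ← pow_two]; exact Nat.pow_le_pow_right hsp.pos hm1
    exact eq_top_of_le_card _ (by rw [hcard, pow_two]; exact h1)
  have hcoord : ∀ v : V, ∃ i j : ℕ, v = u ^ i * u' ^ j := by
    intro v
    obtain ⟨a, ha, b, hb, rfl⟩ := mem_sup.1 (hgen.symm ▸ mem_top v)
    obtain ⟨i, rfl⟩ := exists_pow_eq hexp hu ha
    obtain ⟨j, rfl⟩ := exists_pow_eq hexp hu' hb
    exact ⟨i, j, rfl⟩
  -- the third fixed line coincides with the first
  by_contra hcon
  push Not at hcon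
  obtain ⟨y, hy, v₀, hv₀⟩ := hcon
  obtain ⟨c, hc⟩ := hfix y hy
  obtain ⟨c', hc'⟩ := hfix' u hfix y hy
  obtain ⟨c'', hc''⟩ := hfix' u' (hfix' u hfix) y hy
  have hodd : Odd (orderOf y) := by
    obtain ⟨k, hk⟩ := hY ⟨y, hy⟩
    have hk' : y ^ q ^ k = 1 := congrArg Subtype.val hk
    obtain ⟨m, -, hm⟩ := (Nat.dvd_prime_pow Fact.out).1 (orderOf_dvd_of_pow_eq_one hk')
    rw [hm]; exact ((Fact.out : q.Prime).odd_of_ne_two hq).pow
  have hord : (c : ZMod s) ^ orderOf y = 1 := by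
    have := hφpow y u c hc (orderOf y)
    rw [pow_orderOf_eq_one, map_one, MulAut.one_apply] at this
    conv_lhs at this => rw [← pow_one u]
    rw [pow_eq_pow_iff_cast hexp hu, Nat.cast_one, Nat.cast_pow] at this
    exact this.symm
  have hcc := hdet y hy u u' c c' hu hind hc hc'
  have hc1 : (c : ZMod s) ≠ 1 := by
    intro h1
    rw [h1, one_mul] at hcc
    refine hv₀ ?_
    obtain ⟨i, j, rfl⟩ := hcoord v₀
    rw [map_mul, map_pow, map_pow, hc, hc', ← pow_mul, ← pow_mul]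
    congr 1
    · rw [pow_eq_pow_iff_cast hexp hu, Nat.cast_mul, h1, one_mul]
    · rw [pow_eq_pow_iff_cast hexp hu', Nat.cast_mul, hcc, one_mul]
  have hne : (c : ZMod s) ≠ c' := fun h0 => hc1 (eq_one_of_odd_pow hodd hord (by
    rw [← hcc]; conv_rhs => rw [← h0]))
  set u'' := φ h u' with hu''def
  obtain ⟨i, j, hij⟩ := hcoord u''
  have hkey : u ^ (c * i) * u' ^ (c' * j) = u ^ (i * c'') * u' ^ (j * c'') := by
    have h1 : φ y u'' = u'' ^ c'' := hc''
    rw [hij, map_mul, map_pow, map_pow, hc, hc', ← pow_mul, ← pow_mul, mul_pow, ← pow_mul,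
      ← pow_mul] at h1
    exact h1
  obtain ⟨hi, hj⟩ := coord_unique hexp hu hind hkey
  push_cast at hi hj
  have hj0 : (j : ZMod s) = 0 := by
    by_contra hj0
    have hc'' : (c' : ZMod s) = c'' := mul_right_cancel₀ hj0 (by rw [hj, mul_comm])
    have hi0 : (i : ZMod s) = 0 := by
      by_contra hi0
      exact hne (mul_right_cancel₀ hi0 (by rw [hi, hc'', mul_comm]))
    refine hind ?_
    have e : φ h u' = φ h (u ^ j) := by
      rw [map_pow, ← hu'def, ← hu''def, hij,
        show u ^ i = u ^ 0 from (pow_eq_pow_iff_cast hexp hu).2 (by rw [hi0, Nat.cast_zero]),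
        pow_zero, one_mul]
    rw [(φ h).injective e]
    exact pow_mem (mem_zpowers u) _
  have h2u : φ (h ^ 2) u = u ^ i := by
    rw [pow_two, map_mul, MulAut.mul_apply, ← hu'def, ← hu''def, hij,
      show u' ^ j = u' ^ 0 from (pow_eq_pow_iff_cast hexp hu').2 (by rw [hj0, Nat.cast_zero]),
      pow_zero, mul_one]
  have hper : φ (h ^ (2 * (s - 1))) u = u := by
    rw [pow_mul, hφpow _ u i h2u]
    conv_rhs => rw [← pow_one u]
    rw [pow_eq_pow_iff_cast hexp hu, Nat.cast_one, Nat.cast_pow]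
    refine ZMod.pow_card_sub_one_eq_one fun h0 => hu ?_
    refine (φ (h ^ 2)).injective ?_
    rw [h2u, map_one, show u ^ i = u ^ 0 from
      (pow_eq_pow_iff_cast hexp hu).2 (by rw [h0, Nat.cast_zero]), pow_zero]
  have hs4 : s + 1 ∣ 2 * (s - 1) := by
    by_contra hnd
    refine hu (hfree (2 * (s - 1) % (s + 1)) ?_ (Nat.mod_lt _ (by omega)) u ?_)
    · exact Nat.pos_of_ne_zero fun h0 => hnd (Nat.dvd_of_mod_eq_zero h0)
    · rwa [← pow_eq_pow_mod _ hh]
  have hs_eq : s = 3 := by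
    have h4 : s + 1 ∣ 4 := by
      have h1 : s + 1 ∣ 2 * (s + 1) := dvd_mul_left _ _
      have h2 := Nat.dvd_sub h1 hs4
      rwa [show 2 * (s + 1) - 2 * (s - 1) = 4 by omega] at h2
    have := Nat.le_of_dvd (by norm_num) h4
    omega
  refine hc1 (eq_one_of_odd_pow hodd hord ?_)
  rw [← pow_two]
  have h0 : (c : ZMod s) ≠ 0 := fun h0 => by simp [h0] at hcc
  have := ZMod.pow_card_sub_one_eq_one h0
  rwa [show s - 1 = 2 by omega] at this

end CfsgLib.Solvable.TwoLength
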