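import Cfsg.Agent.Lib.Solvable.TwoLength.Tools
import Cfsg.Agent.Lib.Solvable.TwoLength.Plane
import Cfsg.Agent.Lib.Solvable.FPFOperators.HallHigmanB
import Cfsg.Agent.Lib.LocalEven.Commutators

/-!
# Exceptional two-elements of a linear group in characteristic two

An element `g` of order dividing `2 ^ (n + 1)` whose displacement is killed by the power
`2 ^ (n + 1) - 1`, with `z = g ^ 2 ^ n`. If `D = [D, z]` is an odd `q`-group normalised by `g` then
`[D, D]` centralises every `s`-group (`s ≠ q` odd) normalised by `D` and `g`.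
-/

set_option autoImplicit false

namespace CfsgLib.Solvable.TwoLength

open Subgroup CfsgLib CfsgLib.Solvable.FPFOperators
open scoped commutatorElement

universe u v w

variable {Γ : Type u} [Group Γ] {K : Type v} [Field K] {W : Type w} [AddCommGroup W]
  [Module K W] {g : Γ} {n : ℕ}

theorem mem_normalizer_zpowers {a z : Γ} (h : Commute a z) :
    a ∈ normalizer ((zpowers z : Subgroup Γ) : Set Γ) :=
  centralizer_le_normalizer _ (mem_centralizer_iff.2 fun w hw => by
    obtain ⟨i, rfl⟩ := mem_zpowers_iff.1 hw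
    exact (h.symm.zpow_left i).eq)

theorem commutator_self_le (A : Subgroup Γ) : ⁅A, A⁆ ≤ A :=
  commutator_le.2 fun a ha b hb => by
    rw [commutatorElement_def]
    exact mul_mem (mul_mem (mul_mem ha hb) (inv_mem ha)) (inv_mem hb)

theorem mem_normalizer_commutator' (A B : Subgroup Γ) {a : Γ} (hA : a ∈ normalizer (A : Set Γ))
    (hB : a ∈ normalizer (B : Set Γ)) : a ∈ normalizer ((⁅A, B⁆ : Subgroup Γ) : Set Γ) := by
  rw [mem_normalizer_iff_map_conj_eq] at hA hB ⊢
  rw [map_commutator, hA, hB]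

theorem mem_normalizer_map_of_char {D : Subgroup Γ} (A : Subgroup D) [hA : A.Characteristic] :
    normalizer (D : Set Γ) ≤ normalizer ((A.map D.subtype : Subgroup Γ) : Set Γ) := by
  refine le_normalizer_iff.2 fun a ha => ?_
  rintro _ ⟨x, hx, rfl⟩
  exact ⟨D.normalizerMonoidHom ⟨a, ha⟩ x, characteristic_iff_map_le.mp hA _ ⟨x, hx, rfl⟩, rfl⟩

theorem mem_normalizer_centralizer' {A : Subgroup Γ} {a : Γ}
    (ha : a ∈ normalizer (A : Set Γ)) :
    a ∈ normalizer ((centralizer (A : Set Γ) : Subgroup Γ) : Set Γ) := by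
  refine le_normalizer_iff.2 (fun h hh x hx => mem_centralizer_iff.2 fun b hb => ?_) ha
  have h1 : h⁻¹ * b * h ∈ A := by
    have := (mem_normalizer_iff.1 (inv_mem hh) b).1 hb
    rwa [inv_inv] at this
  have h2 := mem_centralizer_iff.1 hx _ h1
  calc b * (h * x * h⁻¹) = h * ((h⁻¹ * b * h) * x) * h⁻¹ := by group
    _ = h * x * h⁻¹ * b := by rw [h2]; group

theorem commutator_zpowers_eq_bot {A : Subgroup Γ} {z : Γ} (h : ∀ a ∈ A, Commute z a) :
    ⁅A, zpowers z⁆ = ⊥ :=
  commutator_eq_bot_iff_le_centralizer.2 fun a ha => mem_centralizer_iff.2 fun w hw => by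
    obtain ⟨i, rfl⟩ := mem_zpowers_iff.1 hw
    exact ((h a ha).zpow_left i).eq

variable [Finite Γ]

theorem coprime_card_of_primes {s q : ℕ} [Fact s.Prime] [Fact q.Prime] (hsq : s ≠ q)
    {A B : Subgroup Γ} (hA : IsPGroup s A) (hB : IsPGroup q B) :
    (Nat.card A).Coprime (Nat.card B) := by
  obtain ⟨i, hi⟩ := IsPGroup.iff_card.1 hA
  obtain ⟨j, hj⟩ := IsPGroup.iff_card.1 hB
  rw [hi, hj]
  exact ((Nat.coprime_primes Fact.out Fact.out).2 hsq).pow i j

theorem isPGroup_two_zpowers {z : Γ} (hz : z * z = 1) : IsPGroup 2 (zpowers z) := fun x => ⟨1, by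
  obtain ⟨i, hi⟩ := mem_zpowers_iff.1 x.2
  refine Subtype.ext ?_
  show (x : Γ) ^ 2 ^ 1 = 1
  rw [← hi, pow_one, ← zpow_natCast, ← zpow_mul, mul_comm, zpow_mul, zpow_natCast, pow_two, hz,
    one_zpow]⟩

theorem top_mul_self (hg : g ^ 2 ^ (n + 1) = 1) : g ^ 2 ^ n * g ^ 2 ^ n = 1 := by
  rw [← pow_add, ← two_mul, ← pow_succ', hg]

theorem sum_pow_eq_zero [CharP K 2] (ρ : Γ →* Module.End K W) {g : Γ}
    (hr : (ρ g - 1) ^ (2 ^ (n + 1) - 1) = 0) : ∑ i ∈ Finset.range (2 ^ (n + 1)), ρ (g ^ i) = 0 := by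
  rcases subsingleton_or_nontrivial W with hW | hW
  · exact LinearMap.ext fun v => Subsingleton.elim _ _
  haveI : Fact (Nat.Prime 2) := ⟨Nat.prime_two⟩
  haveI : CharP (Module.End K W) 2 := charP_of_injective_algebraMap
    (FaithfulSMul.algebraMap_injective K (Module.End K W)) 2
  simp only [map_pow]
  rw [← sub_one_pow_pred, hr]

variable [IsAlgClosed K] [CharP K 2] (ρ : Γ →* Module.End K W) (hinj : Function.Injective ρ)
  (hg : g ^ 2 ^ (n + 1) = 1) (hr : (ρ g - 1) ^ (2 ^ (n + 1) - 1) = 0)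

include hinj hg hr

/-- The top of `g` centralises every abelian subgroup of odd order normalised by `g`. -/
theorem commute_abelian {A : Subgroup Γ} (hA : Odd (Nat.card A))
    (hgA : g ∈ normalizer (A : Set Γ)) (hAc : ∀ a ∈ A, ∀ b ∈ A, a * b = b * a) {y : Γ}
    (hy : y ∈ A) : Commute (g ^ 2 ^ n) y := by
  set X := normalizer (A : Set Γ) with hX
  haveI : (A.subgroupOf X).Normal := (normal_subgroupOf_iff_le_normalizer le_normalizer).2 le_rfl
  have hK : (Nat.card (A.subgroupOf X) : K) ≠ 0 := by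
    rw [Nat.card_congr (subgroupOfEquivOfLe (le_normalizer (H := A))).toEquiv]
    intro h0
    exact Nat.not_even_iff_odd.2 hA (even_iff_two_dvd.2 ((CharP.cast_eq_zero_iff K 2 _).1 h0))
  exact hinj (commute_of_abelian (ρ.comp X.subtype) Nat.prime_two (n := n) (s := ⟨g, hgA⟩)
    (Subtype.ext hg) (sum_pow_eq_zero ρ hr) hK
    (fun a ha b hb => congrArg ρ (hAc _ ha _ hb)) (y := ⟨y, le_normalizer hy⟩) hy)

theorem charAbelian_central {q : ℕ} [Fact q.Prime] (hq : q ≠ 2) {D : Subgroup Γ}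
    (hD : IsPGroup q D) (hgD : g ∈ normalizer (D : Set Γ))
    (hDz : ⁅D, zpowers (g ^ 2 ^ n)⁆ = D) (A : Subgroup D) (hA : A.Characteristic)
    (hAc : ∀ a ∈ A, ∀ b ∈ A, a * b = b * a) : A ≤ center D := by
  haveI := hA
  have hnorm := mem_normalizer_map_of_char (D := D) A
  have hAc' : ∀ a ∈ A.map D.subtype, ∀ b ∈ A.map D.subtype, a * b = b * a := by
    rintro _ ⟨a, ha, rfl⟩ _ ⟨b, hb, rfl⟩
    rw [← map_mul, ← map_mul, hAc a ha b hb]
  have hodd : Odd (Nat.card (A.map D.subtype)) := by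
    obtain ⟨i, hi⟩ := IsPGroup.iff_card.1 (hD.to_le (map_subtype_le A))
    rw [hi]; exact ((Fact.out : q.Prime).odd_of_ne_two hq).pow
  have h0 := commutator_eq_bot_of_commutator_eq (commutator_zpowers_eq_bot fun a ha =>
    commute_abelian ρ hinj hg hr hodd (hnorm hgD) hAc' ha) (le_normalizer.trans hnorm) hDz
  intro a ha
  exact mem_center_iff.2 fun r => Subtype.ext
    (mem_centralizer_iff.1 (commutator_eq_bot_iff_le_centralizer.1 h0 (mem_map_of_mem _ ha)) r r.2)

/-- `D` has class two and its derived group is centralised by the top of `g`. -/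
theorem class_two {q : ℕ} [Fact q.Prime] (hq : q ≠ 2) {D : Subgroup Γ}
    (hD : IsPGroup q D) (hgD : g ∈ normalizer (D : Set Γ))
    (hDz : ⁅D, zpowers (g ^ 2 ^ n)⁆ = D) :
    (∀ c ∈ ⁅D, D⁆, ∀ d ∈ D, Commute c d) ∧ ∀ c ∈ ⁅D, D⁆, Commute (g ^ 2 ^ n) c := by
  haveI := hD.isNilpotent
  have h2 := commutator_le_center_of_charAbelian (charAbelian_central ρ hinj hg hr hq hD hgD hDz)
  have hc : ∀ c ∈ ⁅D, D⁆, ∀ d ∈ D, Commute c d := by
    intro c hc d hd
    induction hc using closure_induction with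
    | mem x hx =>
      obtain ⟨a, ha, b, hb, rfl⟩ := hx
      exact (congrArg Subtype.val (mem_center_iff.1
        (h2 (commutator_mem_commutator (mem_top (⟨a, ha⟩ : D)) (mem_top ⟨b, hb⟩))) ⟨d, hd⟩)).symm
    | one => exact Commute.one_left d
    | mul a b _ _ ha hb => exact ha.mul_left hb
    | inv a _ ha => exact ha.inv_left
  refine ⟨hc, fun c hcD => commute_abelian ρ hinj hg hr ?_ (mem_normalizer_commutator' D D hgD hgD)
    (fun a ha b hb => hc a ha b (commutator_self_le D hb)) hcD⟩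
  obtain ⟨i, hi⟩ := IsPGroup.iff_card.1 (hD.to_le (commutator_self_le D))
  rw [hi]; exact ((Fact.out : q.Prime).odd_of_ne_two hq).pow

variable [FiniteDimensional K W]

/-- The cross centralisation lemma. -/
theorem cross {q s : ℕ} [Fact q.Prime] [Fact s.Prime] (hq : q ≠ 2) (hs : s ≠ 2) (hsq : s ≠ q)
    {Y U : Subgroup Γ} (hY : IsPGroup q Y) (hgY : g ∈ normalizer (Y : Set Γ))
    (hzY : ∀ y ∈ Y, Commute (g ^ 2 ^ n) y) (hU : IsPGroup s U)
    (hgU : g ∈ normalizer (U : Set Γ)) (hYU : Y ≤ normalizer (U : Set Γ))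
    (hUz : ⁅U, zpowers (g ^ 2 ^ n)⁆ = U)
    (hcls : ∀ a ∈ U, ∀ b ∈ U, ∀ c ∈ U, Commute ⁅a, b⁆ c)
    (hfix : ∀ u ∈ U, Commute (g ^ 2 ^ n) u → ∀ w ∈ U, Commute u w)
    (hYZ : ∀ y ∈ Y, ∀ u ∈ U, (∀ w ∈ U, Commute u w) → Commute y u) :
    ∀ y ∈ Y, ∀ u ∈ U, Commute y u := by
  classical
  haveI : Fact (Nat.Prime 2) := ⟨Nat.prime_two⟩
  set X := normalizer (U : Set Γ) with hX
  set ρ' := ρ.comp X.subtype with hρ'
  have hinj' : Function.Injective ρ' := hinj.comp X.subtype_injective
  set Q := U.subgroupOf X with hQ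
  set Z := (U ⊓ centralizer (U : Set Γ)).subgroupOf X with hZ
  haveI hQn : Q.Normal := (normal_subgroupOf_iff_le_normalizer le_normalizer).2 le_rfl
  haveI : Z.Normal := (normal_subgroupOf_iff_le_normalizer (inf_le_left.trans le_normalizer)).2
    fun a ha => inf_normalizer_le_normalizer_inf ⟨ha, mem_normalizer_centralizer' ha⟩
  haveI : Fintype Z := Fintype.ofFinite _
  have hQs : IsPGroup s Q := hU.of_equiv (subgroupOfEquivOfLe le_normalizer).symm
  have hZQ : Z ≤ Q := fun a ha => ha.1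
  have hZmem : ∀ a : X, a ∈ Q → (a ∈ Z ↔ ∀ w ∈ U, Commute (a : Γ) w) := fun a ha =>
    ⟨fun h w hw => (mem_centralizer_iff.1 h.2 w hw).symm,
      fun h => ⟨ha, mem_centralizer_iff.2 fun w hw => (h w hw).eq.symm⟩⟩
  have hZc : ∀ a ∈ Z, ∀ b ∈ Q, b * a = a * b := fun a ha b hb =>
    Subtype.ext (((hZmem a (hZQ ha)).1 ha) _ hb).eq.symm
  have hcomm : ∀ a ∈ Q, ∀ b ∈ Q, ⁅a, b⁆ ∈ Z := fun a ha b hb => by
    have hab : ⁅a, b⁆ ∈ Q := commutator_self_le Q (commutator_mem_commutator ha hb)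
    exact (hZmem _ hab).2 fun w hw => hcls _ ha _ hb w hw
  have hzU : ∀ u ∈ U, (∀ w ∈ U, Commute u w) → Commute (g ^ 2 ^ n) u := by
    intro u hu huc
    have hodd : Odd (Nat.card ↥(U ⊓ centralizer (U : Set Γ))) := by
      obtain ⟨i, hi⟩ := IsPGroup.iff_card.1 (hU.to_le (inf_le_left (b := centralizer (U : Set Γ))))
      rw [hi]; exact ((Fact.out : s.Prime).odd_of_ne_two hs).pow
    exact commute_abelian ρ hinj hg hr hodd
      (inf_normalizer_le_normalizer_inf ⟨hgU, mem_normalizer_centralizer' hgU⟩)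
      (fun a ha b hb => (mem_centralizer_iff.1 ha.2 b hb.1).symm)
      (y := u) ⟨hu, mem_centralizer_iff.2 fun w hw => (huc w hw).eq.symm⟩
  let g' : X := ⟨g, hgU⟩
  have hfix' : ∀ a ∈ Q, (g' ^ 2 ^ n * a = a * g' ^ 2 ^ n ↔ a ∈ Z) := fun a ha => by
    rw [hZmem a ha]
    exact ⟨fun h => hfix _ ha (show Commute (g ^ 2 ^ n) (a : Γ) from congrArg Subtype.val h),
      fun h => Subtype.ext (hzU _ ha h).eq⟩
  have hsK : (s : K) ≠ 0 := fun h0 =>
    hs ((Nat.prime_dvd_prime_iff_eq Nat.prime_two Fact.out).1 ((CharP.cast_eq_zero_iff K 2 _).1 h0)).symm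
  have hZK : (Fintype.card Z : K) ≠ 0 := by
    rw [← Nat.card_eq_fintype_card]; exact natCard_cast_ne_zero (hQs.to_le hZQ) hsK
  have hZab : IsMulCommutative Z :=
    isMulCommutative_iff.2 fun a b => Subtype.ext (hZc b b.2 a (hZQ a.2))
  have hYlfix : ∀ (l : Z →* Kˣ) (y : X), (y : Γ) ∈ Y → y • l = l := fun l y hy =>
    dual_smul_eq_self_of_commute l fun a ha =>
      Subtype.ext (hYZ _ hy _ (hZQ ha) ((hZmem a (hZQ ha)).1 ha)).eq
  -- block by block
  have key : ∀ (l : Z →* Kˣ), weightIdem Z ρ' l ≠ 0 → ∀ y : X, (y : Γ) ∈ Y → ∀ u ∈ Q, ∀ w ∈ Q,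
      ρ' (⁅y, u⁆ * w) * weightIdem Z ρ' l = ρ' (w * ⁅y, u⁆) * weightIdem Z ρ' l := by
    intro l hl
    set e := weightIdem Z ρ' l with he
    have hQe : ∀ a ∈ Q, Commute (ρ' a) e := fun a ha => by
      show ρ' a * e = e * ρ' a
      rw [he, map_mul_weightIdem_smul,
        dual_smul_eq_self_of_commute l fun c hc => hZc c hc a ha]
    have hyu : ∀ y : X, ∀ u ∈ Q, ⁅y, u⁆ ∈ Q := fun y u hu => by
      rw [commutatorElement_def]
      exact mul_mem (hQn.conj_mem u hu y) (inv_mem hu)
    by_cases hne : ∃ a ∈ Q, ρ' (g' ^ 2 ^ n * a) * e ≠ ρ' (a * g' ^ 2 ^ n) * e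
    swap
    · -- the top of `g` acts trivially
      push Not at hne
      have hze : ρ' (g' ^ 2 ^ n) * e = e * ρ' (g' ^ 2 ^ n) := by
        rw [he, map_mul_weightIdem_smul,
          dual_smul_eq_self_of_commute l fun c hc => (hfix' c (hZQ hc)).2 hc]
      have hall : ∀ v ∈ U, ∀ hv : v ∈ X, ρ' ⟨v, hv⟩ * e = e := by
        intro v hv
        rw [← hUz] at hv
        induction hv using closure_induction with
        | mem x hx =>
          intro hx'
          obtain ⟨a, ha, b, hb, rfl⟩ := hx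
          obtain ⟨i, rfl⟩ := mem_zpowers_iff.1 hb
          let a' : X := ⟨a, le_normalizer ha⟩
          have hc : ∀ j : ℤ, ρ' ⁅a', (g' ^ 2 ^ n) ^ j⁆ * e = e := by
            have h1 : ∀ j : ℤ, ρ' ((g' ^ 2 ^ n) ^ j) * e = e * ρ' ((g' ^ 2 ^ n) ^ j) ∧
                ρ' (a' * (g' ^ 2 ^ n) ^ j) * e = ρ' ((g' ^ 2 ^ n) ^ j * a') * e := by
              intro j
              have hzz : g' ^ 2 ^ n * g' ^ 2 ^ n = 1 := top_mul_self (Subtype.ext hg)
              rcases Int.even_or_odd' j with ⟨m, rfl | rfl⟩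
              · rw [zpow_mul, zpow_two, hzz, one_zpow, map_one, mul_one, one_mul, one_mul, mul_one]
                exact ⟨rfl, rfl⟩
              · rw [zpow_add, zpow_mul, zpow_two, hzz, one_zpow, zpow_one, one_mul]
                exact ⟨hze, (hne a' ha).symm⟩
            intro j
            obtain ⟨hj1, hj2⟩ := h1 j
            have e1 : ⁅a', (g' ^ 2 ^ n) ^ j⁆ =
                a' * (g' ^ 2 ^ n) ^ j * ((g' ^ 2 ^ n) ^ j * a')⁻¹ := by
              rw [commutatorElement_def]; group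
            have hcomm' : Commute (ρ' ((g' ^ 2 ^ n) ^ j * a')⁻¹) e := by
              have h2 : Commute (ρ' ((g' ^ 2 ^ n) ^ j * a')) e := by
                rw [map_mul]; exact Commute.mul_left hj1 (hQe a' ha)
              show ρ' ((g' ^ 2 ^ n) ^ j * a')⁻¹ * e = e * ρ' ((g' ^ 2 ^ n) ^ j * a')⁻¹
              calc ρ' ((g' ^ 2 ^ n) ^ j * a')⁻¹ * e
                  = ρ' ((g' ^ 2 ^ n) ^ j * a')⁻¹ * (e * ρ' ((g' ^ 2 ^ n) ^ j * a')) *
                      ρ' ((g' ^ 2 ^ n) ^ j * a')⁻¹ := by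
                    rw [mul_assoc, mul_assoc e, ← map_mul ρ' ((g' ^ 2 ^ n) ^ j * a'), mul_inv_cancel,
                      map_one, mul_one]
                _ = e * ρ' ((g' ^ 2 ^ n) ^ j * a')⁻¹ := by
                    rw [← h2.eq, ← mul_assoc (ρ' _⁻¹), ← map_mul, inv_mul_cancel, map_one, one_mul]
            rw [e1, map_mul, mul_assoc, hcomm'.eq, ← mul_assoc, hj2, mul_assoc, ← hcomm'.eq,
              ← mul_assoc, ← map_mul, mul_inv_cancel, map_one, one_mul]
          exact hc i
        | one => intro _; exact (by rw [show (⟨1, _⟩ : X) = 1 from rfl, map_one, one_mul])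
        | mul a b ha' hb' ha hb =>
          intro _
          have haU : a ∈ U := hUz ▸ ha'
          have hbU : b ∈ U := hUz ▸ hb'
          rw [show (⟨a * b, _⟩ : X) = ⟨a, le_normalizer haU⟩ * ⟨b, le_normalizer hbU⟩ from rfl,
            map_mul, mul_assoc, hb, ha]
        | inv a ha' ha =>
          intro _
          have haU : a ∈ U := hUz ▸ ha'
          conv_lhs => rw [← ha (le_normalizer haU)]
          rw [show (⟨a⁻¹, _⟩ : X) = (⟨a, le_normalizer haU⟩ : X)⁻¹ from rfl, ← mul_assoc, ← map_mul,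
            inv_mul_cancel, map_one, one_mul]
      intro y _ u hu w hw
      have h1 : ∀ a ∈ Q, ρ' a * e = e := fun a ha => hall a ha a.2
      rw [h1 _ (mul_mem (hyu y u hu) hw), h1 _ (mul_mem hw (hyu y u hu))]
    · -- a plane
      obtain ⟨a, d, han, hal, hd2, -, -, R, hRmem, hrel, hQR, hfree⟩ :=
        theoremB_block_at (n := n) (p := 2) hs ρ' Q Z hQs hZQ hZc hcomm (s := g')
          (Subtype.ext hg) (by rw [normalizer_eq_top]; trivial) hfix' l hne
          (r := 2 ^ (n + 1) - 1) (by exact hr) (Nat.sub_lt (pow_pos (by norm_num) _) one_pos)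
      have hRQ : R ≤ Q := fun x hx => ((hRmem x).1 hx).1
      obtain ⟨b, hb⟩ := IsPGroup.iff_card.mp hQs
      obtain ⟨m, -, hm⟩ : ∃ m ≤ b, d = s ^ m := (Nat.dvd_prime_pow Fact.out).1 (by
        rw [← hb]
        exact (Dvd.intro d hrel.symm).trans (Subgroup.relIndex_dvd_card _ _))
      have hm1 : 1 ≤ m := Nat.pos_of_ne_zero fun h0 => hQR (Subgroup.relIndex_eq_one.1 (by
        rw [hrel, hm, h0, pow_zero, one_mul]))
      have hs3 : 3 ≤ s := by have := (Fact.out : s.Prime).two_le; omega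
      have hmeq := exponent_eq_one ((Fact.out : s.Prime).odd_of_ne_two hs) hs3 hm1
        (by rw [← hm]; exact hd2)
      rw [hmeq, pow_one] at hm
      rw [hm] at hrel hd2
      -- the block quotient
      set St := MulAction.stabilizer X l with hSt
      have hQSt : Q ≤ St := fun x hx =>
        dual_smul_eq_self_of_commute l fun c hc => hZc c hc x hx
      set Rs := R.subgroupOf St with hRs
      set Qs := Q.subgroupOf St with hQs'
      have hstc : ∀ x ∈ St, ρ' x * e = e * ρ' x := fun x hx => by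
        rw [he, map_mul_weightIdem_smul, MulAction.mem_stabilizer_iff.1 hx]
      have hRw : R = wCentral Q ρ' e hQe := Subgroup.ext fun x => by
        rw [hRmem]; rfl
      haveI : Rs.Normal := ⟨fun x hx c => by
        show (c : X) * x * (c : X)⁻¹ ∈ R
        have hx' : (x : X) ∈ R := hx
        rw [hRw] at hx' ⊢
        exact conj_mem_wCentral ρ' (hstc c c.2) hx'⟩
      set mk := QuotientGroup.mk' Rs with hmk
      set V := Qs.map mk with hV
      have hmkeq : ∀ a b : St, mk a = mk b → (a : X)⁻¹ * b ∈ R := fun a b h =>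
        (QuotientGroup.eq (a := a) (b := b) (s := Rs)).1 h
      have hmk1 : ∀ a : St, mk a = 1 → (a : X) ∈ R := fun a h =>
        (QuotientGroup.eq_one_iff a).1 h
      haveI : V.Normal := (inferInstance : Qs.Normal).map mk (QuotientGroup.mk'_surjective _)
      -- the form
      let κ : X → X → Kˣ := fun x w =>
        if h : ⁅x, w⁆ ∈ Z then l ⟨⁅x, w⁆, h⟩ else 1
      have hκ : ∀ x ∈ Q, ∀ w ∈ Q, ρ' ⁅x, w⁆ * e = (κ x w : K) • e := fun x hx w hw => by
        simp only [κ, dif_pos (hcomm x hx w hw)]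
        exact map_mem_mul_weightIdem ρ' l ⟨⁅x, w⁆, hcomm x hx w hw⟩
      have hκ1 : ∀ x ∈ Q, ∀ w ∈ Q, (κ x w = 1 ↔ ρ' ⁅x, w⁆ * e = e) := fun x hx w hw => by
        rw [hκ x hx w hw, ← Units.val_inj, Units.val_one]
        exact ⟨fun h => by rw [h, one_smul], fun h => smul_left_injective K hl (h.trans (one_smul K e).symm)⟩
      have hκR : ∀ x, x ∈ R ↔ x ∈ Q ∧ ∀ w ∈ Q, κ x w = 1 := fun x => by
        rw [hRw, mem_wCentral]
        exact and_congr_right fun hx => forall₂_congr fun w hw => (hκ1 x hx w hw).symm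
      have hκl : ∀ x ∈ Q, ∀ x' ∈ Q, ∀ w ∈ Q, κ (x * x') w = κ x w * κ x' w := by
        intro x hx x' hx' w hw
        have e1 : ⁅x * x', w⁆ = ⁅x, w⁆ * ⁅x', w⁆ := by
          have h2 := hZc _ (hcomm x' hx' w hw)
          calc ⁅x * x', w⁆ = x * ⁅x', w⁆ * x⁻¹ * ⁅x, w⁆ := by
                simp only [commutatorElement_def]; group
            _ = ⁅x, w⁆ * ⁅x', w⁆ := by
                rw [h2 x hx, mul_inv_cancel_right]
                exact hZc _ (hcomm x hx w hw) _ (hZQ (hcomm x' hx' w hw))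
        simp only [κ, dif_pos (hcomm _ (mul_mem hx hx') w hw), dif_pos (hcomm x hx w hw),
          dif_pos (hcomm x' hx' w hw)]
        rw [← map_mul]
        exact congrArg l (Subtype.ext e1)
      have hκs : ∀ x ∈ Q, ∀ w ∈ Q, κ w x = (κ x w)⁻¹ := by
        intro x hx w hw
        simp only [κ, dif_pos (hcomm w hw x hx), dif_pos (hcomm x hx w hw)]
        rw [← map_inv]
        exact congrArg l (Subtype.ext (commutatorElement_inv x w).symm)
      have hκp : ∀ x ∈ Q, ∀ w ∈ Q, ∀ i : ℕ, κ (x ^ i) w = κ x w ^ i := by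
        intro x hx w hw i
        induction i with
        | zero =>
          rw [pow_zero, pow_zero]
          exact (hκ1 1 (one_mem Q) w hw).2 (by rw [commutatorElement_one_left, map_one, one_mul])
        | succ i ih => rw [pow_succ, hκl _ (pow_mem hx i) x hx w hw, ih, pow_succ]
      have hκz : ∀ x ∈ Q, ∀ i : ℕ, ∀ w ∈ Q, κ x (w ^ i) = κ x w ^ i := fun x hx i w hw => by
        rw [hκs _ (pow_mem hw i) x hx, hκp w hw x hx, hκs x hx w hw, inv_pow, inv_inv]
      have hone : ∀ x ∈ Q, κ x x = 1 := fun x hx => (hκ1 x hx x hx).2 (by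
        rw [commutatorElement_self, map_one, one_mul])
      -- elementary abelian of order `s ^ 2`
      have hcV : Nat.card V = s ^ 2 := by
        have h1 : Rs.relIndex Qs = s * s := by
          rw [hRs, hQs', Subgroup.relIndex_subgroupOf hQSt, hrel]
        rw [hV, ← Subgroup.relIndex_ker, QuotientGroup.ker_mk', h1, pow_two]
      have hVab : ∀ v ∈ V, ∀ v' ∈ V, v * v' = v' * v := by
        rintro _ ⟨x, hx, rfl⟩ _ ⟨x', hx', rfl⟩
        rw [← commutatorElement_eq_one_iff_mul_comm, ← map_commutatorElement]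
        refine (QuotientGroup.eq_one_iff _).2 ?_
        show ⁅(x : X), (x' : X)⁆ ∈ R
        have h2 := hcomm _ hx _ hx'
        exact (hRmem _).2 ⟨hZQ h2, fun w hw => congrArg (fun t => ρ' t * e) (hZc _ h2 w hw).symm⟩
      letI : CommGroup V :=
        { (inferInstance : Group V) with mul_comm := fun v v' => Subtype.ext (hVab _ v.2 _ v'.2) }
      have hexpV : ∀ v : V, v ^ s = 1 := by
        intro v
        by_contra hv
        have hov : orderOf v = s ^ 2 := by
          obtain ⟨i, hi2, hi⟩ := (Nat.dvd_prime_pow Fact.out).1 (hcV ▸ orderOf_dvd_natCard v)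
          rcases Nat.lt_or_ge i 2 with h | h
          · refine absurd (orderOf_dvd_iff_pow_eq_one.1 ?_) hv
            rw [hi]; exact (pow_dvd_pow s (show i ≤ 1 by omega)).trans (pow_one s).dvd
          · rw [hi, show i = 2 by omega]
        obtain ⟨⟨_, x, hx, rfl⟩⟩ : Nonempty {w : V // w = v} := ⟨⟨v, rfl⟩⟩
        have hgen : ∀ w ∈ Qs, ∃ i : ℕ, mk w = mk v.1.out ^ i := by
          intro w hw
          have htop : zpowers v = ⊤ := eq_top_of_card_eq _ (by rw [Nat.card_zpowers, hov, hcV])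
          obtain ⟨i, hi⟩ := (isOfFinOrder_of_finite v).mem_powers_iff_mem_zpowers.2
            (htop.symm ▸ mem_top (⟨mk w, mem_map_of_mem mk hw⟩ : V))
          refine ⟨i, ?_⟩
          rw [show mk v.1.out = v.1 from QuotientGroup.out_eq' _]
          exact (congrArg Subtype.val hi).symm
        obtain ⟨x₀, hx₀, hx₀v⟩ := v.2
        refine hQR fun w hw => ?_
        have hx₀Q : (x₀ : X) ∈ Q := hx₀
        have hsplit : ∀ w ∈ Qs, ∃ i : ℕ, ∃ r ∈ R, (w : X) = (x₀ : X) ^ i * r := by
          intro w hw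
          obtain ⟨i, hi⟩ := hgen w hw
          rw [show mk v.1.out = mk x₀ from (QuotientGroup.out_eq' _).trans hx₀v.symm, ← map_pow] at hi
          exact ⟨i, _, hmkeq _ _ hi.symm, (mul_inv_cancel_left ((x₀ : X) ^ i) (w : X)).symm⟩
        have hx₀R : ∀ w ∈ Q, κ (x₀ : X) w = 1 := by
          intro w hw
          obtain ⟨i, r, hrR, hwe⟩ := hsplit ⟨w, hQSt hw⟩ hw
          show κ (x₀ : X) w = 1
          rw [show w = (x₀ : X) ^ i * r from hwe, hκs _ (mul_mem (pow_mem hx₀Q i) (hRQ hrR)) _ hx₀Q,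
            hκl _ (pow_mem hx₀Q i) r (hRQ hrR) _ hx₀Q, hκp _ hx₀Q _ hx₀Q, hone _ hx₀Q, one_pow,
            ((hκR r).1 hrR).2 _ hx₀Q, one_mul, inv_one]
        obtain ⟨i, r, hrR, hwe⟩ := hsplit ⟨w, hQSt hw⟩ hw
        rw [show w = (x₀ : X) ^ i * r from hwe]
        exact mul_mem (pow_mem ((hκR _).2 ⟨hx₀Q, hx₀R⟩) i) hrR
      let φ : St →* MulAut V := MulAut.conjNormal.comp mk
      have hgS : g' ^ 2 ^ a ∈ St := hal
      set Ys := (Y.subgroupOf X).subgroupOf St with hYs
      have hYSt : Y.subgroupOf X ≤ St := fun y hy => hYlfix l y hy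
      have hYq : IsPGroup q Ys :=
        (hY.of_equiv (subgroupOfEquivOfLe hYU).symm).of_equiv (subgroupOfEquivOfLe hYSt).symm
      have hhY : (⟨g' ^ 2 ^ a, hgS⟩ : St) ∈ normalizer (Ys : Set St) := by
        rw [mem_normalizer_iff]
        intro x
        exact (mem_normalizer_iff.1 (pow_mem hgY (2 ^ a)) ((x : X) : Γ))
      have hmkx : ∀ (v : V), ∃ x : St, ∃ hx : x ∈ Qs, v = ⟨mk x, mem_map_of_mem mk hx⟩ := fun v => by
        obtain ⟨x, hx, hxv⟩ := v.2
        exact ⟨x, hx, Subtype.ext hxv.symm⟩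
      have hfreeV : ∀ i, 0 < i → i < s + 1 → ∀ v : V,
          φ ((⟨g' ^ 2 ^ a, hgS⟩ : St) ^ i) v = v → v = 1 := by
        intro i hi hi2 v hv
        obtain ⟨x, hx, rfl⟩ := hmkx v
        refine Subtype.ext ((QuotientGroup.eq_one_iff x).2 ?_)
        refine hfree i hi (hd2 ▸ hi2) x hx ?_
        have h1 := congrArg Subtype.val hv
        simp only [φ, MonoidHom.comp_apply, MulAut.conjNormal_apply] at h1
        rw [mul_inv_eq_iff_eq_mul, ← commutatorElement_eq_one_iff_mul_comm,
          ← map_commutatorElement] at h1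
        exact hmk1 _ h1
      have htriv : ∀ y ∈ Ys, ∀ v : V, φ y v = v := by
        refine plane_trivial φ hYq hq hs hcV hexpV (f := n - a + 1) hd2 ?_ hhY hfreeV ?_
        · refine Subtype.ext ?_
          show (g' ^ 2 ^ a) ^ (s + 1) = 1
          rw [hd2, ← pow_mul, ← pow_add, show a + (n - a + 1) = n + 1 by omega]
          exact Subtype.ext hg
        intro y hy u v c c' hu hv hc hc'
        obtain ⟨x, hx, rfl⟩ := hmkx u
        obtain ⟨w, hw, rfl⟩ := hmkx v
        have hmod : ∀ (x : St) (hx : x ∈ Qs) (c : ℕ),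
            φ y ⟨mk x, mem_map_of_mem mk hx⟩ = ⟨mk x, mem_map_of_mem mk hx⟩ ^ c →
            ∃ r ∈ R, (y : X) * x * (y : X)⁻¹ = (x : X) ^ c * r := by
          intro x _ c h
          have h1 := congrArg Subtype.val h
          simp only [φ, MonoidHom.comp_apply, MulAut.conjNormal_apply, SubmonoidClass.coe_pow] at h1
          rw [← map_inv, ← map_mul, ← map_mul, ← map_pow] at h1
          exact ⟨_, hmkeq _ _ h1.symm,
            (mul_inv_cancel_left ((x : X) ^ c) ((y : X) * x * (y : X)⁻¹)).symm⟩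
        obtain ⟨r, hr1, he1⟩ := hmod x hx c hc
        obtain ⟨r', hr2, he2⟩ := hmod w hw c' hc'
        have hxQ : (x : X) ∈ Q := hx
        have hwQ : (w : X) ∈ Q := hw
        have hRl : ∀ r ∈ R, ∀ b ∈ Q, κ r b = 1 ∧ κ b r = 1 := fun r hr b hb => by
          have h1 := ((hκR r).1 hr).2 b hb
          exact ⟨h1, by rw [hκs r (hRQ hr) b hb, h1, inv_one]⟩
        have hk : κ (x : X) w ^ (c * c') = κ (x : X) w := by
          have e1 : κ ((y : X) * x * (y : X)⁻¹) ((y : X) * w * (y : X)⁻¹) = κ (x : X) w := by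
            have e : ⁅(y : X) * x * (y : X)⁻¹, (y : X) * w * (y : X)⁻¹⁆ = ⁅(x : X), (w : X)⁆ := by
              have h0 : (y : X) * ⁅(x : X), (w : X)⁆ = ⁅(x : X), (w : X)⁆ * y := by
                have h := hcomm _ hxQ _ hwQ
                exact Subtype.ext (hYZ _ hy _ (hZQ h) ((hZmem _ (hZQ h)).1 h)).eq
              rw [← mul_inv_eq_iff_eq_mul] at h0
              rw [← h0]; simp only [commutatorElement_def]; group
            simp only [κ, e]
          rw [he1, he2, hκl _ (pow_mem hxQ c) r (hRQ hr1) _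
            (mul_mem (pow_mem hwQ c') (hRQ hr2)), (hRl r hr1 _ (mul_mem (pow_mem hwQ c') (hRQ hr2))).1,
            mul_one, hκs _ (mul_mem (pow_mem hwQ c') (hRQ hr2)) _ (pow_mem hxQ c),
            hκl _ (pow_mem hwQ c') r' (hRQ hr2) _ (pow_mem hxQ c),
            (hRl r' hr2 _ (pow_mem hxQ c)).1, mul_one, ← hκs _ (pow_mem hwQ c') _ (pow_mem hxQ c),
            hκp _ hxQ _ (pow_mem hwQ c'), hκz _ hxQ c' _ hwQ, ← pow_mul, mul_comm c'] at e1
          exact e1
        have hord : orderOf (κ (x : X) w) = s := by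
          refine orderOf_eq_prime ?_ ?_
          · rw [← hκp _ hxQ _ hwQ]
            refine (hRl _ ?_ _ hwQ).1
            exact (QuotientGroup.eq_one_iff (x ^ s)).1 ((map_pow mk x s).trans
              (congrArg Subtype.val (hexpV ⟨mk x, mem_map_of_mem mk hx⟩)))
          · intro h1
            refine hu (Subtype.ext ((QuotientGroup.eq_one_iff x).2 ((hκR _).2 ⟨hxQ, fun b hb => ?_⟩)))
            have hgen : zpowers (⟨mk x, mem_map_of_mem mk hx⟩ : V) ⊔
                zpowers ⟨mk w, mem_map_of_mem mk hw⟩ = ⊤ := by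
              refine eq_top_of_card_eq _ ?_
              obtain ⟨i, hi2, hi⟩ := (Nat.dvd_prime_pow Fact.out).1 (hcV ▸ card_subgroup_dvd_card
                (zpowers (⟨mk x, mem_map_of_mem mk hx⟩ : V) ⊔ zpowers ⟨mk w, mem_map_of_mem mk hw⟩))
              rcases Nat.lt_or_ge i 2 with hlt | hge
              · exfalso
                refine hv ?_
                have hle := eq_of_le_of_card_ge (le_sup_left : zpowers _ ≤
                  zpowers (⟨mk x, mem_map_of_mem mk hx⟩ : V) ⊔ zpowers ⟨mk w, mem_map_of_mem mk hw⟩) (by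
                  rw [hi, Nat.card_zpowers, orderOf_eq_of_pow_eq_one hexpV hu]
                  exact (Nat.pow_le_pow_right (Fact.out : s.Prime).pos (show i ≤ 1 by omega)).trans
                    (pow_one s).le)
                rw [hle]
                exact mem_sup_right (mem_zpowers _)
              · rw [hi, hcV, show i = 2 by omega]
            obtain ⟨p₁, hp₁, p₂, hp₂, hp⟩ := mem_sup.1
              (hgen.symm ▸ mem_top (⟨mk ⟨b, hQSt hb⟩, mem_map_of_mem mk hb⟩ : V))
            obtain ⟨i, rfl⟩ := exists_pow_eq hexpV hu hp₁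
            have hv1 : (⟨mk w, mem_map_of_mem mk hw⟩ : V) ≠ 1 := fun h0 => hv (h0 ▸ one_mem _)
            obtain ⟨j, rfl⟩ := exists_pow_eq hexpV hv1 hp₂
            have h2 := congrArg Subtype.val hp
            simp only [Subgroup.coe_mul, SubmonoidClass.coe_pow, ← map_pow, ← map_mul] at h2
            set rr := ((x : X) ^ i * (w : X) ^ j)⁻¹ * b with hrr
            have hrR : rr ∈ R := hmkeq _ _ h2
            show κ (x : X) b = 1
            rw [show b = (x : X) ^ i * (w : X) ^ j * rr from (mul_inv_cancel_left _ b).symm,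
              hκs _ (mul_mem (mul_mem (pow_mem hxQ i) (pow_mem hwQ j)) (hRQ hrR)) _ hxQ,
              hκl _ (mul_mem (pow_mem hxQ i) (pow_mem hwQ j)) rr (hRQ hrR) _ hxQ,
              (hRl rr hrR _ hxQ).1, mul_one, hκl _ (pow_mem hxQ i) _ (pow_mem hwQ j) _ hxQ,
              hκp _ hxQ _ hxQ, hone _ hxQ, one_pow, one_mul, hκp _ hwQ _ hxQ, hκs _ hxQ _ hwQ,
              h1, inv_one, one_pow, inv_one]
        have := pow_eq_pow_iff_modEq.1 (hk.trans (pow_one _).symm)
        rw [hord, ← ZMod.natCast_eq_natCast_iff] at this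
        exact_mod_cast this
      intro y hy u hu w hw
      have h1 := congrArg Subtype.val (htriv ⟨y, hYSt hy⟩ hy
        ⟨mk ⟨u, hQSt hu⟩, mem_map_of_mem mk hu⟩)
      simp only [φ, MonoidHom.comp_apply, MulAut.conjNormal_apply] at h1
      rw [mul_inv_eq_iff_eq_mul, ← commutatorElement_eq_one_iff_mul_comm,
        ← map_commutatorElement] at h1
      exact ((hRmem ⁅y, u⁆).1 (hmk1 _ h1)).2 w hw
  intro y hy u hu
  have h1 : ⁅U, Y⁆ = ⊥ := by
    have hle : ⁅U, Y⁆ ≤ U := le_normalizer_iff_commutator_le_left.1 hYU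
    refine Coprime.commutator_eq_bot_of_commutator_commutator
      (coprime_card_of_primes hsq.symm hY (hU.to_le hle)) ?_
    refine commutator_eq_bot_iff_le_centralizer.2 (commutator_le.2 fun a ha b hb => ?_)
    refine mem_centralizer_iff.2 fun c hc => (hYZ c hc _ (hle (commutator_mem_commutator ha hb))
      fun w hw => ?_).eq
    rw [← commutatorElement_inv]
    refine Commute.inv_left ?_
    let a' : X := ⟨a, le_normalizer ha⟩
    let b' : X := ⟨b, hYU hb⟩
    let w' : X := ⟨w, le_normalizer hw⟩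
    exact congrArg Subtype.val (hinj' (eq_of_forall_mul_weightIdem ρ' hZab hZK fun l hl =>
      key l hl b' hb a' ha w' hw))
  exact (mem_centralizer_iff.1 (commutator_eq_bot_iff_le_centralizer.1 h1 hu) y hy)

/-- `[D, D]` centralises the invariant groups for other primes. -/
theorem step {q s : ℕ} [Fact q.Prime] [Fact s.Prime] (hq : q ≠ 2) (hs : s ≠ 2) (hsq : s ≠ q)
    {D : Subgroup Γ} (hD : IsPGroup q D) (hgD : g ∈ normalizer (D : Set Γ))
    (hDz : ⁅D, zpowers (g ^ 2 ^ n)⁆ = D) (O : Subgroup Γ) (hO : IsPGroup s O)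
    (hDO : D ≤ normalizer (O : Set Γ)) (hgO : g ∈ normalizer (O : Set Γ)) :
    ⁅O, ⁅D, D⁆⁆ = ⊥ := by
  induction hn : Nat.card O using Nat.strong_induction_on generalizing O with
  | _ k ih =>
  set z := g ^ 2 ^ n with hzdef
  set Y := ⁅D, D⁆ with hYdef
  have hYD : Y ≤ D := commutator_self_le D
  obtain ⟨hYc, hzY⟩ := class_two ρ hinj hg hr hq hD hgD hDz
  have hgY : g ∈ normalizer (Y : Set Γ) := mem_normalizer_commutator' D D hgD hgD
  have hYO : Y ≤ normalizer (O : Set Γ) := hYD.trans hDO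
  have hDY : D ≤ centralizer (Y : Set Γ) := fun d hd =>
    mem_centralizer_iff.2 fun y hy => (hYc y hy d hd).eq
  have hcopY : ∀ O' : Subgroup Γ, IsPGroup s O' → (Nat.card Y).Coprime (Nat.card O') := fun O' h =>
    coprime_card_of_primes hsq.symm (hD.to_le hYD) h
  by_cases hOY : ⁅O, Y⁆ = O
  swap
  · have hle : ⁅O, Y⁆ ≤ O := le_normalizer_iff_commutator_le_left.1 hYO
    have hlt : Nat.card ↥⁅O, Y⁆ < k := by
      rw [← hn]
      refine lt_of_le_of_ne (card_le_of_le hle) fun he => hOY ?_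
      exact eq_of_le_of_card_ge hle he.ge
    have h := ih _ hlt ⁅O, Y⁆ (hO.to_le hle)
      (fun d hd => mem_normalizer_commutator' O Y (hDO hd)
        (centralizer_le_normalizer _ (hDY hd)))
      (mem_normalizer_commutator' O Y hgO hgY) rfl
    exact Coprime.commutator_eq_bot_of_commutator_commutator (hcopY _ (hO.to_le hle)) h
  rcases eq_or_ne O ⊥ with rfl | hO0
  · exact commutator_bot_left _
  haveI := hO.isNilpotent
  have hz2 : z * z = 1 := top_mul_self hg
  -- characteristic abelian subgroups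
  have hchar : ∀ A : Subgroup O, A.Characteristic → (∀ a ∈ A, ∀ b ∈ A, a * b = b * a) →
      A ≤ center O ∧ ∀ a ∈ A.map O.subtype, Commute z a ∧ ∀ d ∈ D, Commute d a := by
    intro A hA hAc
    haveI := hA
    have hnorm := mem_normalizer_map_of_char (D := O) A
    have hAc' : ∀ a ∈ A.map O.subtype, ∀ b ∈ A.map O.subtype, a * b = b * a := by
      rintro _ ⟨a, ha, rfl⟩ _ ⟨b, hb, rfl⟩
      rw [← map_mul, ← map_mul, hAc a ha b hb]
    have hodd : Odd (Nat.card (A.map O.subtype)) := by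
      obtain ⟨i, hi⟩ := IsPGroup.iff_card.1 (hO.to_le (map_subtype_le A))
      rw [hi]; exact ((Fact.out : s.Prime).odd_of_ne_two hs).pow
    have hz : ∀ a ∈ A.map O.subtype, Commute z a := fun a ha =>
      commute_abelian ρ hinj hg hr hodd (hnorm hgO) hAc' ha
    have h0 := commutator_eq_bot_of_commutator_eq (commutator_zpowers_eq_bot hz)
      (hDO.trans hnorm) hDz
    have h1 : ⁅A.map O.subtype, Y⁆ = ⊥ := eq_bot_iff.2 ((commutator_mono le_rfl hYD).trans h0.le)
    have h2 := commutator_eq_bot_of_commutator_eq h1 (le_normalizer.trans hnorm) hOY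
    refine ⟨fun a ha => mem_center_iff.2 fun r => Subtype.ext
      (mem_centralizer_iff.1 (commutator_eq_bot_iff_le_centralizer.1 h2 (mem_map_of_mem _ ha)) r r.2),
      fun a ha => ⟨hz a ha, fun d hd =>
        mem_centralizer_iff.1 (commutator_eq_bot_iff_le_centralizer.1 h0 ha) d hd⟩⟩
  have hcls := commutator_le_center_of_charAbelian fun A hA hAc => (hchar A hA hAc).1
  have hcls' : ∀ a ∈ O, ∀ b ∈ O, ∀ c ∈ O, Commute ⁅a, b⁆ c := fun a ha b hb c hc =>
    (congrArg Subtype.val (mem_center_iff.1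
      (hcls (commutator_mem_commutator (mem_top (⟨a, ha⟩ : O)) (mem_top (⟨b, hb⟩ : O)))) ⟨c, hc⟩)).symm
  have hcen : ∀ u ∈ O, (∀ w ∈ O, Commute u w) → Commute z u ∧ ∀ d ∈ D, Commute d u := by
    intro u hu huc
    refine (hchar (center O) inferInstance fun a ha b _ => (mem_center_iff.1 ha b).symm).2 u ?_
    exact ⟨⟨u, hu⟩, mem_center_iff.2 fun r => Subtype.ext (huc r r.2).eq.symm, rfl⟩
  have hder : ∀ a ∈ O, ∀ b ∈ O, Commute z ⁅a, b⁆ ∧ ∀ d ∈ D, Commute d ⁅a, b⁆ := fun a ha b hb =>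
    hcen _ (commutator_self_le O (commutator_mem_commutator ha hb)) (hcls' a ha b hb)
  have hzO : zpowers z ≤ normalizer (O : Set Γ) := zpowers_le.2 (pow_mem hgO _)
  set U := ⁅O, zpowers z⁆ with hUdef
  have hUO : U ≤ O := le_normalizer_iff_commutator_le_left.1 hzO
  have hcopz : ∀ O' : Subgroup Γ, IsPGroup s O' → (Nat.card (zpowers z)).Coprime (Nat.card O') :=
    fun O' h => by
      haveI : Fact (Nat.Prime 2) := ⟨Nat.prime_two⟩
      exact coprime_card_of_primes hs.symm (isPGroup_two_zpowers hz2) h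
  have hsol : Group.IsSolvable (zpowers z) ∨ Group.IsSolvable O :=
    .inl (Coprime.isSolvable_zpowers z)
  have hUC : ∀ c ∈ O, Commute z c → ∀ u ∈ U, Commute c u := by
    intro c hc hzc u hu
    induction hu using closure_induction with
    | mem x hx =>
      obtain ⟨r, hr', w, hw, rfl⟩ := hx
      obtain ⟨i, rfl⟩ := mem_zpowers_iff.1 hw
      exact commute_commutatorElement (hzc.symm.zpow_right i)
        ((hder c hc r hr').1.symm.zpow_right i)
        (hcls' c hc r hr' _ (hUO (commutator_mem_commutator hr' hw)))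
    | one => exact Commute.one_right c
    | mul a b _ _ ha hb => exact ha.mul_right hb
    | inv a _ ha => exact ha.inv_right
  have hUcen : ∀ u ∈ U, (∀ w ∈ U, Commute u w) → ∀ w ∈ O, Commute u w := by
    intro u hu huc w hw
    have h := Coprime.commutator_sup_centralizer hzO (hcopz O hO) hsol
    rw [← h] at hw
    refine mem_centralizer_singleton_iff.1
      ((sup_le (fun a ha => ?_) (fun a ha => ?_) : _ ≤ centralizer ({u} : Set Γ)) hw) |>.symm
    · exact mem_centralizer_singleton_iff.2 (huc a ha).eq.symm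
    · exact mem_centralizer_singleton_iff.2
        (hUC a ha.1 (mem_centralizer_iff.1 ha.2 z (mem_zpowers z)) u hu).eq
  have hgz : g ∈ normalizer ((zpowers z : Subgroup Γ) : Set Γ) :=
    mem_normalizer_zpowers (Commute.self_pow g _)
  have hYU : Y ≤ normalizer (U : Set Γ) := fun y hy =>
    mem_normalizer_commutator' O (zpowers z) (hYO hy) (mem_normalizer_zpowers (hzY y hy).symm)
  have hYcU := cross ρ hinj hg hr hq hs hsq (hD.to_le hYD) hgY hzY (hO.to_le hUO)
    (mem_normalizer_commutator' O (zpowers z) hgO hgz) hYU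
    (Coprime.commutator_commutator_self hzO (hcopz O hO) hsol)
    (fun a ha b hb c hc => hcls' a (hUO ha) b (hUO hb) c (hUO hc))
    (fun u hu huz w hw => hUC u (hUO hu) huz w hw)
    (fun y hy u hu huc => (hcen u (hUO hu) (hUcen u hu huc)).2 y (hYD hy))
  set L := O ⊓ centralizer (Y : Set Γ) with hLdef
  have hUL : U ≤ L := fun u hu => ⟨hUO hu, mem_centralizer_iff.2 fun y hy => (hYcU y hy u hu).eq⟩
  have hzL : zpowers z ≤ normalizer (L : Set Γ) := zpowers_le.2 (inf_normalizer_le_normalizer_inf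
    ⟨pow_mem hgO _, mem_normalizer_centralizer'
      (centralizer_le_normalizer _ (mem_centralizer_iff.2 fun y hy => (hzY y hy).eq.symm))⟩)
  have hDL : D ≤ normalizer (L : Set Γ) := fun d hd => inf_normalizer_le_normalizer_inf
    ⟨hDO hd, mem_normalizer_centralizer' (centralizer_le_normalizer _ (hDY hd))⟩
  have hOL : O ≤ normalizer (L : Set Γ) := by
    refine le_normalizer_iff.2 fun o ho x hx => ?_
    refine mem_inf.2 ⟨mul_mem (mul_mem ho hx.1) (inv_mem ho), ?_⟩
    rw [show o * x * o⁻¹ = ⁅o, x⁆ * x by rw [commutatorElement_def]; group]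
    exact mul_mem (mem_centralizer_iff.2 fun y hy => ((hder o ho x hx.1).2 y (hYD hy)).eq) hx.2
  have h3 : ⁅D, O⁆ ≤ L := by
    conv_lhs => rw [← hDz]
    refine LocalEven.Commutators.three_subgroup_mod hDL hzL hOL ?_ ?_
    · rw [commutator_comm (zpowers z) O]
      exact (commutator_mono hUL le_rfl).trans (le_normalizer_iff_commutator_le_left.1 hDL)
    · exact (commutator_mono (le_normalizer_iff_commutator_le_left.1 hDO) le_rfl).trans hUL
  have h4 : O ≤ L := by
    conv_lhs => rw [← hOY]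
    refine (commutator_mono le_rfl hYD).trans ?_
    rw [commutator_comm]
    exact h3
  exact commutator_eq_bot_iff_le_centralizer.2 fun o ho => (h4 ho).2

end CfsgLib.Solvable.TwoLength
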