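import Mathlib
import Cfsg.Agent.Lib.Coprime.Action
import Cfsg.Agent.Lib.PGroup.PolySeq

/-!
# Small tools for bounding the two-length

Groups all of whose characteristic abelian subgroups are central, and a few identities.
-/

set_option autoImplicit false

namespace CfsgLib.Solvable.TwoLength

open Subgroup
open scoped commutatorElement

/-- A finite nilpotent group with central characteristic abelian subgroups has class at most two. -/
theorem commutator_le_center_of_charAbelian {D : Type*} [Group D] [Group.IsNilpotent D]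
    (h : ∀ A : Subgroup D, A.Characteristic → (∀ a ∈ A, ∀ b ∈ A, a * b = b * a) →
      A ≤ center D) : ⁅(⊤ : Subgroup D), ⊤⁆ ≤ center D := by
  set Z₂ := Subgroup.upperCentralSeries D 2 with hZ₂
  set A := (⊤ : Subgroup D).lowerCentralSeries 1 ⊓ Z₂ with hA
  have hmem : ∀ x, x ∈ Z₂ ↔ ∀ y : D, x * y * x⁻¹ * y⁻¹ ∈ center D := fun x => by
    rw [hZ₂, Subgroup.mem_upperCentralSeries_succ_iff, Subgroup.upperCentralSeries_one]
    rfl
  have hcomm : ⁅(⊤ : Subgroup D).lowerCentralSeries 1, Z₂⁆ = ⊥ := by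
    have h1 : ⁅Z₂, (⊤ : Subgroup D)⁆ ≤ center D := commutator_le.2 fun x hx y _ => (hmem x).1 hx y
    have h2 : ⁅center D, (⊤ : Subgroup D)⁆ = ⊥ :=
      commutator_eq_bot_iff_le_centralizer.2 (by
        rw [coe_top, centralizer_univ])
    rw [Subgroup.lowerCentralSeries_succ, Subgroup.lowerCentralSeries_zero]
    refine commutator_commutator_eq_bot_of_rotate ?_ ?_
    · rw [commutator_comm (⊤ : Subgroup D) Z₂]
      exact eq_bot_iff.2 ((commutator_mono h1 le_rfl).trans h2.le)
    · exact eq_bot_iff.2 ((commutator_mono h1 le_rfl).trans h2.le)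
  have hAc : A ≤ center D := by
    refine h A ?_ fun a ha b hb => ?_
    · have h₁ : ((⊤ : Subgroup D).lowerCentralSeries 1).Characteristic := inferInstance
      have h₂ : Z₂.Characteristic := inferInstance
      rw [characteristic_iff_map_eq]
      intro φ
      rw [hA, Subgroup.map_inf _ _ _ φ.injective, characteristic_iff_map_eq.1 h₁ φ,
        characteristic_iff_map_eq.1 h₂ φ]
    · rw [← commutatorElement_eq_one_iff_mul_comm, ← mem_bot, ← hcomm]
      exact commutator_mem_commutator ha.1 hb.2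
  obtain ⟨n, hn⟩ := Subgroup.nilpotent_iff_lowerCentralSeries.1 ‹Group.IsNilpotent D›
  have key : ∀ k i, n ≤ i + k → (⊤ : Subgroup D).lowerCentralSeries (i + 1) ≤ center D := by
    intro k
    induction k with
    | zero =>
      intro i hi
      refine ((Subgroup.lowerCentralSeries_antitone _) (show n ≤ i + 1 by omega)).trans ?_
      rw [hn]; exact bot_le
    | succ k ih =>
      intro i hi x hx
      refine hAc ⟨(Subgroup.lowerCentralSeries_antitone _) (show 1 ≤ i + 1 by omega) hx,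
        (hmem x).2 fun y => ?_⟩
      have h1 : ⁅x, y⁆ ∈ (⊤ : Subgroup D).lowerCentralSeries (i + 1 + 1) := by
        rw [Subgroup.lowerCentralSeries_succ]
        exact commutator_mem_commutator hx (mem_top y)
      exact ih (i + 1) (by omega) h1
  have := key n 0 (by omega)
  rwa [Subgroup.lowerCentralSeries_succ, Subgroup.lowerCentralSeries_zero] at this

/-- Squares are central in a two-group with central characteristic abelian subgroups. -/
theorem sq_mem_center_of_charAbelian {R : Type*} [Group R] (hR : IsPGroup 2 R) [Finite R]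
    (h : ∀ A : Subgroup R, A.Characteristic → (∀ a ∈ A, ∀ b ∈ A, a * b = b * a) →
      A ≤ center R) (x : R) : x ^ 2 ∈ center R := by
  haveI := hR.isNilpotent
  have h2 := commutator_le_center_of_charAbelian h
  have hc : ∀ a b w : R, Commute ⁅a, b⁆ w := fun a b w =>
    ((mem_center_iff.1 (h2 (commutator_mem_commutator (mem_top a) (mem_top b)))) w).symm
  have hl : ∀ (a b : R) (i : ℕ), ⁅a ^ i, b⁆ = ⁅a, b⁆ ^ i := by
    intro a b i
    induction i with
    | zero => simp [commutatorElement_def]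
    | succ i ih =>
      have e : ⁅a ^ (i + 1), b⁆ = a * ⁅a ^ i, b⁆ * a⁻¹ * ⁅a, b⁆ := by
        rw [pow_succ', commutatorElement_def, commutatorElement_def, commutatorElement_def]
        group
      rw [e, ← (hc (a ^ i) b a).eq, mul_inv_cancel_right, ih, pow_succ]
  have hr : ∀ (a b : R) (i : ℕ), ⁅a, b ^ i⁆ = ⁅a, b⁆ ^ i := fun a b i => by
    rw [← commutatorElement_inv, hl, ← inv_pow, commutatorElement_inv]
  obtain ⟨k₀, hk₀⟩ := (IsPGroup.iff_card (p := 2)).1 hR
  have hex : ∃ k, ∀ a b : R, ⁅a, b⁆ ^ 2 ^ k = 1 :=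
    ⟨k₀, fun a b => by rw [← hk₀]; exact pow_card_eq_one'⟩
  classical
  set k := Nat.find hex with hk
  have hspec : ∀ a b : R, ⁅a, b⁆ ^ 2 ^ k = 1 := Nat.find_spec hex
  suffices hk1 : k ≤ 1 by
    refine mem_center_iff.2 fun w => ?_
    have h1 : ⁅x ^ 2, w⁆ = 1 := by
      rw [hl]
      rcases Nat.le_one_iff_eq_zero_or_eq_one.1 hk1 with h0 | h0
      · have := hspec x w
        rw [h0, pow_zero, pow_one] at this
        rw [this, one_pow]
      · have := hspec x w
        rwa [h0, pow_one] at this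
    exact (commutatorElement_eq_one_iff_mul_comm.1 h1).symm
  by_contra hlt
  set A := closure (Set.range fun a : R => a ^ 2 ^ (k - 1)) with hA
  have hA1 : A.Characteristic := by
    rw [characteristic_iff_map_le]
    intro φ
    rw [hA, MonoidHom.map_closure, closure_le]
    rintro _ ⟨_, ⟨a, rfl⟩, rfl⟩
    exact subset_closure ⟨φ a, (map_pow φ a _).symm⟩
  have hA2 : A ≤ center R := by
    refine h A hA1 fun a ha b hb => ?_
    refine isMulCommutative_iff.1 (Subgroup.isMulCommutative_closure ?_) ⟨a, ha⟩ ⟨b, hb⟩ |>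
      congrArg Subtype.val
    rintro _ ⟨u, rfl⟩ _ ⟨v, rfl⟩
    show u ^ 2 ^ (k - 1) * v ^ 2 ^ (k - 1) = v ^ 2 ^ (k - 1) * u ^ 2 ^ (k - 1)
    rw [← commutatorElement_eq_one_iff_mul_comm, hl, hr, ← pow_mul, ← pow_add,
      show k - 1 + (k - 1) = k + (k - 2) by omega, pow_add, pow_mul, hspec, one_pow]
  refine Nat.find_min hex (show k - 1 < k by omega) fun a b => ?_
  rw [← hl, commutatorElement_eq_one_iff_mul_comm]
  exact (mem_center_iff.1 (hA2 (subset_closure ⟨a, rfl⟩)) b).symm

variable {G : Type*} [Group G]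

/-- If `z` centralises `A`, which `D = [D, z]` normalises, then `D` centralises `A`. -/
theorem commutator_eq_bot_of_commutator_eq {A D Z : Subgroup G} (hAZ : ⁅A, Z⁆ = ⊥)
    (hDA : D ≤ normalizer (A : Set G)) (hDZ : ⁅D, Z⁆ = D) : ⁅A, D⁆ = ⊥ := by
  rw [commutator_comm]
  conv_lhs => rw [← hDZ]
  refine commutator_commutator_eq_bot_of_rotate ?_ ?_
  · rw [commutator_comm Z A, hAZ, commutator_bot_left]
  · have : ⁅A, D⁆ ≤ A := le_normalizer_iff_commutator_le_left.1 hDA
    exact eq_bot_iff.2 ((commutator_mono this le_rfl).trans hAZ.le)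

/-- If `⁅c, r⁆` is fixed enough, then `c` commutes with `⁅r, z⁆`. -/
theorem commute_commutatorElement {c r z : G} (hcz : Commute c z) (h1 : Commute ⁅c, r⁆ z)
    (h2 : Commute ⁅c, r⁆ ⁅r, z⁆) : Commute c ⁅r, z⁆ := by
  have e1 : c * r * c⁻¹ = ⁅c, r⁆ * r := by simp [commutatorElement_def]
  have e2 : c * ⁅r, z⁆ * c⁻¹ = ⁅c, r⁆ * ⁅r, z⁆ * ⁅c, r⁆⁻¹ := by
    have e : c * ⁅r, z⁆ * c⁻¹ = (c * r * c⁻¹) * (c * z * c⁻¹) * (c * r * c⁻¹)⁻¹ * (c * z * c⁻¹)⁻¹ := by
      simp only [commutatorElement_def]; group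
    have ez : c * z * c⁻¹ = z := by rw [hcz.eq, mul_inv_cancel_right]
    rw [e, e1, ez]
    have h1' : z * ⁅c, r⁆⁻¹ * z⁻¹ = ⁅c, r⁆⁻¹ := by
      rw [(h1.inv_left).symm.eq, mul_inv_cancel_right]
    calc ⁅c, r⁆ * r * z * (⁅c, r⁆ * r)⁻¹ * z⁻¹
        = ⁅c, r⁆ * (r * z * r⁻¹ * z⁻¹) * (z * ⁅c, r⁆⁻¹ * z⁻¹) := by group
      _ = ⁅c, r⁆ * ⁅r, z⁆ * ⁅c, r⁆⁻¹ := by rw [h1', ← commutatorElement_def]
  rw [h2.eq, mul_inv_cancel_right, mul_inv_eq_iff_eq_mul] at e2
  exact e2

/-- In odd characteristic a unit of two-power order with square-zero displacement is trivial. -/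
theorem eq_one_of_sq_eq_zero {E : Type*} [Ring E] {q : ℕ} [Fact q.Prime] (hqE : (q : E) = 0)
    (hq2 : q ≠ 2) {u : E} {k : ℕ} (hu : u ^ 2 ^ k = 1) (h2 : (u - 1) * (u - 1) = 0) : u = 1 := by
  have hpow : ∀ m : ℕ, u ^ m = 1 + (m : E) * (u - 1) := by
    intro m
    induction m with
    | zero => simp
    | succ m ih =>
      rw [pow_succ, ih, Nat.cast_succ]
      calc (1 + (m : E) * (u - 1)) * u
          = 1 + ((m : E) + 1) * (u - 1) + (m : E) * ((u - 1) * (u - 1)) := by noncomm_ring
        _ = 1 + ((m : E) + 1) * (u - 1) := by rw [h2, mul_zero, add_zero]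
  have h3 : ((2 ^ k : ℕ) : E) * (u - 1) = 0 := by
    have := hpow (2 ^ k)
    rw [hu, left_eq_add] at this
    exact this
  have hcop : Nat.Coprime (2 ^ k) q :=
    ((Nat.coprime_primes Nat.prime_two Fact.out).2 hq2.symm).pow_left k
  obtain ⟨a, b, hab⟩ := (Nat.isCoprime_iff_coprime.2 hcop)
  have h4 : ((a * (2 ^ k : ℕ) + b * q : ℤ) : E) * (u - 1) = 0 := by
    push_cast
    rw [hqE, mul_zero, add_zero, mul_assoc]
    push_cast at h3
    rw [h3, mul_zero]
  rw [hab, Int.cast_one, one_mul, sub_eq_zero] at h4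
  exact h4

/-- The only solutions of `q ^ m + 1 = 2 ^ f` have `m = 1`. -/
theorem exponent_eq_one {q m f : ℕ} (hq : Odd q) (hq3 : 3 ≤ q) (hm : 1 ≤ m)
    (h : q ^ m + 1 = 2 ^ f) : m = 1 := by
  rcases Nat.even_or_odd m with ⟨j, hj⟩ | hodd
  · exfalso
    obtain ⟨t, ht⟩ := hq.pow (n := j)
    have h2 : q ^ m + 1 = 4 * (t * t + t) + 2 := by rw [hj, pow_add, ht]; ring
    rw [h2] at h
    rcases f with _ | _ | f
    · simp at h
    · have : 3 ≤ q ^ m + 1 := by
        calc 3 ≤ q := hq3
          _ ≤ q ^ m := Nat.le_self_pow (by omega) q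
          _ ≤ q ^ m + 1 := Nat.le_succ _
      rw [h2, h] at this
      norm_num at this
    · rw [pow_succ, pow_succ] at h
      omega
  · by_contra hm1
    -- the cofactor of `q + 1` is odd
    have hg : (∑ i ∈ Finset.range m, (-(q : ℤ)) ^ i) * ((q : ℤ) + 1) = (q : ℤ) ^ m + 1 := by
      have := geom_sum_mul (-(q : ℤ)) m
      rw [hodd.neg_pow] at this
      linarith
    set S := ∑ i ∈ Finset.range m, (-(q : ℤ)) ^ i with hS
    have hodd' : Odd S := by
      have : ∀ k, Odd (∑ i ∈ Finset.range k, (-(q : ℤ)) ^ i) ↔ Odd k := by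
        intro k
        induction k with
        | zero => simp
        | succ k ih =>
          rw [Finset.sum_range_succ, Int.odd_add, ih, Nat.odd_add_one]
          have h1 : ¬ Even ((-(q : ℤ)) ^ k) := Int.not_even_iff_odd.2 ((Odd.neg (by
            exact_mod_cast hq)).pow)
          simp [h1]
      exact (this m).2 hodd
    have hdvd : S.natAbs ∣ 2 ^ f := by
      refine ⟨q + 1, ?_⟩
      rw [← h]
      have := congrArg Int.natAbs hg
      rw [Int.natAbs_mul] at this
      norm_cast at this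
      exact this.symm
    obtain ⟨i, -, hi⟩ := (Nat.dvd_prime_pow Nat.prime_two).1 hdvd
    have hi0 : i = 0 := by
      by_contra hi0
      have h1 : Odd S.natAbs := Int.natAbs_odd.2 hodd'
      rw [hi] at h1
      exact Nat.not_even_iff_odd.2 h1 (Nat.even_pow.2 ⟨even_two, hi0⟩)
    rw [hi0, pow_zero] at hi
    have h2 := congrArg Int.natAbs hg
    rw [Int.natAbs_mul, hi, one_mul] at h2
    norm_cast at h2
    have h3 : q < q ^ m := by
      calc q = q ^ 1 := (pow_one q).symm
        _ < q ^ m := Nat.pow_lt_pow_right (by omega) (by omega)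
    omega

end CfsgLib.Solvable.TwoLength
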